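import Mathlib.Algebra.Homology.ShortComplex.ShortExact
import Mathlib.CategoryTheory.Abelian.DiagramLemmas.KernelCokernelComp
import Mathlib.CategoryTheory.EffectiveEpi.Comp
import Mathlib.CategoryTheory.ExtremalEpi
import Mathlib.Combinatorics.Quiver.ReflQuiver

/-!
# Strong devissage in an abelian category

`Z` is an object ("the additive group"), `Tor`, `Fin`, `Rep` are properties of objects ("tori", "finite groups", "affine groups
of finite type").  Under the axioms collected in `Dev`, an object filtered by pieces `Z` and finite pieces above an almost torus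
is an extension of a `Z`-tower by an almost torus (`Dev.exists_quotient_tower`).
-/

set_option autoImplicit false

universe v u

open CategoryTheory CategoryTheory.Limits

namespace K59.DevAbs

variable {C : Type u} [Category.{v} C] [Abelian C]

theorem ses_kernel {X Y : C} (f : X ⟶ Y) [Epi f] :
    (ShortComplex.mk (kernel.ι f) f (kernel.condition f)).ShortExact :=
  ShortComplex.ShortExact.mk' (ShortComplex.exact_of_f_is_kernel _ (kernelIsKernel f)) inferInstance inferInstance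

theorem ses_cokernel {X Y : C} (f : X ⟶ Y) [Mono f] :
    (ShortComplex.mk f (cokernel.π f) (cokernel.condition f)).ShortExact :=
  ShortComplex.ShortExact.mk' (ShortComplex.exact_of_g_is_cokernel _ (cokernelIsCokernel f)) inferInstance inferInstance

/-- The first object of a short exact sequence is the kernel. -/
noncomputable def isoKernel {A B D : C} {i : A ⟶ B} {q : B ⟶ D} {w : i ≫ q = 0}
    (h : (ShortComplex.mk i q w).ShortExact) : A ≅ kernel q :=
  IsLimit.conePointUniqueUpToIso h.fIsKernel (limit.isLimit _)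

theorem isoKernel_hom_ι {A B D : C} {i : A ⟶ B} {q : B ⟶ D} {w : i ≫ q = 0}
    (h : (ShortComplex.mk i q w).ShortExact) : (isoKernel h).hom ≫ kernel.ι q = i :=
  IsLimit.conePointUniqueUpToIso_hom_comp h.fIsKernel (limit.isLimit _) WalkingParallelPair.zero

/-- The last object of a short exact sequence is the cokernel. -/
noncomputable def isoCokernel {A B D : C} {i : A ⟶ B} {q : B ⟶ D} {w : i ≫ q = 0}
    (h : (ShortComplex.mk i q w).ShortExact) : cokernel i ≅ D :=
  IsColimit.coconePointUniqueUpToIso (colimit.isColimit _) h.gIsCokernel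

theorem π_isoCokernel_hom {A B D : C} {i : A ⟶ B} {q : B ⟶ D} {w : i ≫ q = 0}
    (h : (ShortComplex.mk i q w).ShortExact) : cokernel.π i ≫ (isoCokernel h).hom = q :=
  IsColimit.comp_coconePointUniqueUpToIso_hom (colimit.isColimit _) h.gIsCokernel WalkingParallelPair.one

/-- `coker f → coker (f ≫ g) → coker g` for monomorphisms. -/
theorem ses_coker_comp {X Y W : C} (f : X ⟶ Y) (g : Y ⟶ W) [Mono f] [Mono g] :
    ∃ (a : cokernel f ⟶ cokernel (f ≫ g)) (b : cokernel (f ≫ g) ⟶ cokernel g) (w : a ≫ b = 0),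
      (ShortComplex.mk a b w).ShortExact ∧ cokernel.π f ≫ a = g ≫ cokernel.π (f ≫ g) ∧
      cokernel.π (f ≫ g) ≫ b = cokernel.π g := by
  let s := kernelCokernelCompSequence.snakeInput f g
  have hw : cokernel.map f (f ≫ g) (𝟙 _) g (by simp) ≫ cokernel.map (f ≫ g) g f (𝟙 _) (by simp) = 0 := s.L₃.zero
  refine ⟨cokernel.map f (f ≫ g) (𝟙 _) g (by simp), cokernel.map (f ≫ g) g f (𝟙 _) (by simp), hw, ?_, by simp, by simp⟩
  have h1 : s.L₃.Exact := s.L₃_exact
  have hker : s.L₂'.Exact := s.L₂'_exact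
  have h0 : IsZero s.L₀.X₃ := by
    change IsZero (kernel g)
    exact (isZero_kernel_of_mono g)
  have h2 : Mono s.L₃.f := by
    have : s.L₂'.f = 0 := h0.eq_of_src _ _
    exact (ShortComplex.exact_iff_mono _ this).1 hker
  have h3 : Epi s.L₃.g := by
    change Epi (cokernel.map (f ≫ g) g f (𝟙 _) (by simp))
    infer_instance
  exact ShortComplex.ShortExact.mk' h1 h2 h3

/-- `ker f → ker (f ≫ g) → ker g` for epimorphisms. -/
theorem ses_ker_comp {X Y W : C} (f : X ⟶ Y) (g : Y ⟶ W) [Epi f] [Epi g] :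
    ∃ (a : kernel f ⟶ kernel (f ≫ g)) (b : kernel (f ≫ g) ⟶ kernel g) (w : a ≫ b = 0),
      (ShortComplex.mk a b w).ShortExact ∧ a ≫ kernel.ι (f ≫ g) = kernel.ι f ∧
      b ≫ kernel.ι g = kernel.ι (f ≫ g) ≫ f := by
  let s := kernelCokernelCompSequence.snakeInput f g
  have hw : kernel.map f (f ≫ g) (𝟙 _) g (by simp) ≫ kernel.map (f ≫ g) g f (𝟙 _) (by simp) = 0 := s.L₀.zero
  refine ⟨kernel.map f (f ≫ g) (𝟙 _) g (by simp), kernel.map (f ≫ g) g f (𝟙 _) (by simp), hw, ?_, by simp, by simp⟩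
  have h1 : s.L₀.Exact := s.L₀_exact
  have hker : s.L₁'.Exact := s.L₁'_exact
  have h0 : IsZero s.L₃.X₁ := by
    change IsZero (cokernel f)
    exact (isZero_cokernel_of_epi f)
  have h2 : Epi s.L₀.g := by
    have : s.L₁'.g = 0 := h0.eq_of_tgt _ _
    exact (ShortComplex.exact_iff_epi _ this).1 hker
  have h3 : Mono s.L₀.f := by
    change Mono (kernel.map f (f ≫ g) (𝟙 _) g (by simp))
    infer_instance
  exact ShortComplex.ShortExact.mk' h1 h3 h2

/-- The axioms. -/
structure Dev (Z : C) (Tor Fin Rep : C → Prop) : Prop where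
  tor_iso : ∀ {X Y : C}, (X ≅ Y) → Tor X → Tor Y
  fin_iso : ∀ {X Y : C}, (X ≅ Y) → Fin X → Fin Y
  rep_iso : ∀ {X Y : C}, (X ≅ Y) → Rep X → Rep Y
  rep_Z : Rep Z
  rep_ker : ∀ {X Y : C} (f : X ⟶ Y), Rep X → Rep Y → Rep (kernel f)
  rep_coker : ∀ {X Y : C} (f : X ⟶ Y) [Mono f], Rep X → Rep Y → Rep (cokernel f)
  fin_rep : ∀ {X : C}, Fin X → Rep X
  fin_ext : ∀ {A B D : C} (i : A ⟶ B) (q : B ⟶ D) (w : i ≫ q = 0), (ShortComplex.mk i q w).ShortExact →
    Rep B → Fin A → Fin D → Fin B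
  dich : ∀ {F : C} (m : F ⟶ Z) [Mono m], Rep F → IsIso m ∨ Fin F
  notfin : ¬ Fin Z
  key : ∀ {M E : C} (i : Z ⟶ M) (q : M ⟶ E) (w : i ≫ q = 0), (ShortComplex.mk i q w).ShortExact →
    Rep M → Fin E → ∃ z : M ⟶ Z, i ≫ z ≠ 0

variable {Z : C} {Tor Fin Rep : C → Prop}

variable (Tor Fin) in
/-- Almost torus: an extension of a finite object by a torus. -/
def AT (G : C) : Prop := ∃ (A : C) (q : G ⟶ A), Epi q ∧ Fin A ∧ Tor (kernel q)

variable (Z Tor Fin) in
/-- Chains with `n` steps `Z` above an almost torus. -/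
def Tow : ℕ → C → Prop
  | 0, G => AT Tor Fin G
  | n + 1, G => ∃ q : G ⟶ Z, Epi q ∧ Tow n (kernel q)

variable (Z) in
/-- Towers with `n` steps `Z` above zero. -/
def TowZ : ℕ → C → Prop
  | 0, G => IsZero G
  | n + 1, G => ∃ q : G ⟶ Z, Epi q ∧ TowZ n (kernel q)

namespace Dev

variable (h : Dev Z Tor Fin Rep)
include h

/-- The kernel of a precomposition with an isomorphism. -/
noncomputable def _root_.K59.DevAbs.kerIso {X Y W : C} (e : X ≅ Y) (q : X ⟶ W) : kernel q ≅ kernel (e.inv ≫ q) :=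
  kernel.mapIso q (e.inv ≫ q) e (Iso.refl _) (by simp)

theorem at_iso {X Y : C} (e : X ≅ Y) (hX : AT Tor Fin X) : AT Tor Fin Y := by
  obtain ⟨A, q, hq, hA, hT⟩ := hX
  exact ⟨A, e.inv ≫ q, epi_comp _ _, hA, h.tor_iso (kerIso e q) hT⟩

theorem tow_iso (n : ℕ) : ∀ {X Y : C}, (X ≅ Y) → Tow Z Tor Fin n X → Tow Z Tor Fin n Y := by
  induction n with
  | zero => intro X Y e hX; exact h.at_iso e hX
  | succ n ih =>
    intro X Y e hX
    obtain ⟨q, hq, hT⟩ := hX
    exact ⟨e.inv ≫ q, epi_comp _ _, ih (kerIso e q) hT⟩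

omit h in
theorem _root_.K59.DevAbs.towZ_iso (n : ℕ) : ∀ {X Y : C}, (X ≅ Y) → TowZ Z n X → TowZ Z n Y := by
  induction n with
  | zero => intro X Y e hX; exact hX.of_iso e.symm
  | succ n ih =>
    intro X Y e hX
    obtain ⟨q, hq, hT⟩ := hX
    exact ⟨e.inv ≫ q, epi_comp _ _, ih (kerIso e q) hT⟩

/-- A nonzero endomorphism of `Z` is an epimorphism with finite kernel. -/
theorem endo (f : Z ⟶ Z) (hf : f ≠ 0) : Epi f ∧ Fin (kernel f) := by
  have h1 : Fin (kernel f) := by
    rcases h.dich (kernel.ι f) (h.rep_ker f h.rep_Z h.rep_Z) with h1 | h1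
    · exfalso
      apply hf
      rw [← cancel_epi (kernel.ι f), kernel.condition, comp_zero]
    · exact h1
  refine ⟨?_, h1⟩
  let e := Abelian.coimage f
  have he : Rep (Abelian.image f) := by
    refine h.rep_iso (Abelian.coimageIsoImage f) ?_
    exact h.rep_coker (kernel.ι f) (h.rep_ker f h.rep_Z h.rep_Z) h.rep_Z
  rcases h.dich (Abelian.image.ι f) he with h2 | h2
  · rw [← Abelian.image.fac f]
    exact epi_comp _ _
  · exfalso
    refine h.notfin (h.fin_ext (kernel.ι f) (Abelian.factorThruImage f) ?_ ?_ h.rep_Z h1 h2)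
    · rw [← cancel_mono (Abelian.image.ι f), Category.assoc, Abelian.image.fac, kernel.condition, zero_comp]
    · refine ShortComplex.ShortExact.mk' (ShortComplex.exact_of_f_is_kernel _ ?_) inferInstance inferInstance
      refine KernelFork.IsLimit.ofι' _ _ fun {A} k hk => ⟨kernel.lift f k ?_, kernel.lift_ι _ _ _⟩
      rw [← Abelian.image.fac f, reassoc_of% hk, zero_comp]

/-- A group `M` which is `Z`-by-finite surjects onto `Z` with finite kernel. -/
theorem exists_epi {M E : C} (i : Z ⟶ M) (p : M ⟶ E) (w : i ≫ p = 0) (hs : (ShortComplex.mk i p w).ShortExact)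
    (hM : Rep M) (hE : Fin E) : ∃ z : M ⟶ Z, Epi z ∧ Fin (kernel z) := by
  obtain ⟨z, hz⟩ := h.key i p w hs hM hE
  obtain ⟨h1, h2⟩ := h.endo (i ≫ z) hz
  have hz' : Epi z := epi_of_epi i z
  have hi : Mono i := hs.mono_f
  have hp : Epi p := hs.epi_g
  refine ⟨z, hz', ?_⟩
  have hw : (kernel.lift z (kernel.ι (i ≫ z) ≫ i) (by rw [Category.assoc, kernel.condition])) ≫ kernel.ι z ≫ p = 0 := by
    rw [kernel.lift_ι_assoc, Category.assoc, w, comp_zero]
  refine h.fin_ext (kernel.lift z (kernel.ι (i ≫ z) ≫ i) (by rw [Category.assoc, kernel.condition])) (kernel.ι z ≫ p) hw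
    ?_ (h.rep_ker z hM h.rep_Z) h2 hE
  refine ShortComplex.ShortExact.mk' (ShortComplex.exact_of_f_is_kernel _ ?_) ?_ ?_
  · refine KernelFork.IsLimit.ofι' _ _ fun {A} k hk => ?_
    have hk' : (k ≫ kernel.ι z) ≫ p = 0 := by rw [Category.assoc]; exact hk
    obtain ⟨l, hl⟩ := KernelFork.IsLimit.lift' hs.fIsKernel _ hk'
    have hl' : l ≫ i = k ≫ kernel.ι z := hl
    refine ⟨kernel.lift (i ≫ z) l ?_, ?_⟩
    · rw [reassoc_of% hl', kernel.condition, comp_zero]
    · rw [← cancel_mono (kernel.ι z), Category.assoc]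
      change _ ≫ kernel.lift z _ _ ≫ kernel.ι z = _
      rw [kernel.lift_ι, kernel.lift_ι_assoc, hl']
  · change Mono (kernel.lift z _ _)
    have : Mono (kernel.lift z (kernel.ι (i ≫ z) ≫ i) (by rw [Category.assoc, kernel.condition]) ≫ kernel.ι z) := by
      rw [kernel.lift_ι]; infer_instance
    exact mono_of_mono _ (kernel.ι z)
  · change Epi (kernel.ι z ≫ p)
    refine Preadditive.epi_of_cancel_zero _ fun {W} u hu => ?_
    have h3 : kernel.ι z ≫ p ≫ u = 0 := by rw [← Category.assoc]; exact hu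
    have hzc := (ses_kernel z).gIsCokernel
    obtain ⟨v, hv⟩ := CokernelCofork.IsColimit.desc' hzc (p ≫ u) h3
    have hv' : z ≫ v = p ≫ u := hv
    have h4 : (i ≫ z) ≫ v = 0 := by rw [Category.assoc, hv', ← Category.assoc, w, zero_comp]
    have h5 : v = 0 := by rwa [← cancel_epi (i ≫ z), comp_zero]
    rw [h5, comp_zero] at hv'
    rw [← cancel_epi p, ← hv', comp_zero]

/-- Chains pass through finite quotients on top. -/
theorem tow_of_finite (n : ℕ) : ∀ {G E : C} (p : G ⟶ E) [Epi p], Rep G → Fin E → Tow Z Tor Fin n (kernel p) →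
    Tow Z Tor Fin n G := by
  induction n with
  | zero =>
    intro G E p _ hG hE hT
    obtain ⟨A, q, hq, hA, hT⟩ := hT
    have hj : Mono (kernel.ι q ≫ kernel.ι p) := mono_comp _ _
    obtain ⟨a, b, w, hs, -, -⟩ := ses_coker_comp (kernel.ι q) (kernel.ι p)
    have hker : Rep (kernel q) := h.rep_ker q (h.rep_ker p hG (h.fin_rep hE)) (h.fin_rep hA)
    refine ⟨cokernel (kernel.ι q ≫ kernel.ι p), cokernel.π _, inferInstance, ?_, ?_⟩
    · refine h.fin_ext a b w hs (h.rep_coker _ hker hG) ?_ ?_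
      · exact h.fin_iso (isoCokernel (ses_kernel q)).symm hA
      · exact h.fin_iso (isoCokernel (ses_kernel p)).symm hE
    · exact h.tor_iso (isoKernel (ses_cokernel (kernel.ι q ≫ kernel.ι p))) hT
  | succ n ih =>
    intro G E p _ hG hE hT
    obtain ⟨q, hq, hT⟩ := hT
    have hj : Mono (kernel.ι q ≫ kernel.ι p) := mono_comp _ _
    obtain ⟨a, b, w, hs, -, -⟩ := ses_coker_comp (kernel.ι q) (kernel.ι p)
    have hkp : Rep (kernel p) := h.rep_ker p hG (h.fin_rep hE)
    have hker : Rep (kernel q) := h.rep_ker q hkp h.rep_Z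
    have hQr : Rep (cokernel (kernel.ι q ≫ kernel.ι p)) := h.rep_coker _ hker hG
    let e1 : Z ≅ cokernel (kernel.ι q) := (isoCokernel (ses_kernel q)).symm
    let e2 : cokernel (kernel.ι p) ≅ E := isoCokernel (ses_kernel p)
    have hw' : (e1.hom ≫ a) ≫ (b ≫ e2.hom) = 0 := by
      have : (e1.hom ≫ a) ≫ (b ≫ e2.hom) = e1.hom ≫ (a ≫ b) ≫ e2.hom := by simp only [Category.assoc]
      rw [this, w, zero_comp, comp_zero]
    have hs' : (ShortComplex.mk (e1.hom ≫ a) (b ≫ e2.hom) hw').ShortExact := by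
      refine ShortComplex.shortExact_of_iso (S₁ := ShortComplex.mk a b w)
        (S₂ := ShortComplex.mk (e1.hom ≫ a) (b ≫ e2.hom) hw') (ShortComplex.isoMk e1.symm (Iso.refl _) e2 ?_ ?_) hs
      · simp
      · simp
    obtain ⟨z, hz, hzf⟩ := h.exists_epi _ _ hw' hs' hQr hE
    have hc : Epi (cokernel.π (kernel.ι q ≫ kernel.ι p) ≫ z) := epi_comp _ _
    refine ⟨cokernel.π (kernel.ι q ≫ kernel.ι p) ≫ z, hc, ?_⟩
    obtain ⟨a', b', w', hs'', -, -⟩ := ses_ker_comp (cokernel.π (kernel.ι q ≫ kernel.ι p)) z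
    have hb' : Epi b' := hs''.epi_g
    refine ih b' (h.rep_ker _ hG h.rep_Z) hzf ?_
    refine h.tow_iso n ?_ hT
    exact (isoKernel (ses_cokernel (kernel.ι q ≫ kernel.ι p))).trans (isoKernel hs'')

omit h in
/-- A chain gives a quotient which is a tower, with almost torus kernel. -/
theorem _root_.K59.DevAbs.exists_quotient_tower (n : ℕ) : ∀ {G : C}, Tow Z Tor Fin n G →
    ∃ (H : C) (j : H ⟶ G) (_ : Mono j), AT Tor Fin H ∧ TowZ Z n (cokernel j) := by
  induction n with
  | zero =>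
    intro G hG
    exact ⟨G, 𝟙 G, inferInstance, hG, isZero_cokernel_of_epi _⟩
  | succ n ih =>
    intro G hG
    obtain ⟨q, hq, hT⟩ := hG
    obtain ⟨H, j, hj, hH, hU⟩ := ih hT
    refine ⟨H, j ≫ kernel.ι q, mono_comp _ _, hH, ?_⟩
    obtain ⟨a, b, w, hs, -, -⟩ := ses_coker_comp j (kernel.ι q)
    have hb : Epi b := hs.epi_g
    let e2 : cokernel (kernel.ι q) ≅ Z := isoCokernel (ses_kernel q)
    refine ⟨b ≫ e2.hom, epi_comp _ _, ?_⟩
    refine towZ_iso n ?_ hU
    exact (isoKernel hs).trans (kernel.mapIso b (b ≫ e2.hom) (Iso.refl _) e2 (by simp))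

/-- Every object is a chain of copies of `Z` above an almost torus. -/
theorem exists_tow (acc : ∀ {F : C}, Rep F → Acc (fun X Y : C => Rep X ∧ ∃ m : X ⟶ Y, Mono m ∧ ¬ IsIso m) F)
    (mult : ∀ {F : C}, Rep F → (∀ x : F ⟶ Z, x = 0) → AT Tor Fin F) {F : C} (hF : Rep F) :
    ∃ n, Tow Z Tor Fin n F := by
  induction acc hF with
  | intro F _ ih =>
    by_cases hx : ∀ x : F ⟶ Z, x = 0
    · exact ⟨0, mult hF hx⟩
    · obtain ⟨x, hx⟩ := not_forall.1 hx
      have hK : Rep (kernel x) := h.rep_ker x hF h.rep_Z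
      have hni : ¬ IsIso (kernel.ι x) := by
        intro hi
        apply hx
        rw [← cancel_epi (kernel.ι x), kernel.condition, comp_zero]
      obtain ⟨n, hn⟩ := ih (kernel x) ⟨hK, kernel.ι x, inferInstance, hni⟩ hK
      have he : Rep (Abelian.image x) :=
        h.rep_iso (Abelian.coimageIsoImage x) (h.rep_coker (kernel.ι x) hK hF)
      rcases h.dich (Abelian.image.ι x) he with h2 | h2
      · have hepi : Epi x := by
          rw [← Abelian.image.fac x]
          exact epi_comp _ _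
        exact ⟨n + 1, x, hepi, hn⟩
      · refine ⟨n, h.tow_of_finite n (Abelian.factorThruImage x) hF h2 (h.tow_iso n ?_ hn)⟩
        exact (kernelIsoOfEq (Abelian.image.fac x)).symm.trans
          (kernelCompMono (Abelian.factorThruImage x) (Abelian.image.ι x))

/-- Strong devissage: an almost torus with quotient a tower. -/
theorem exists_main (acc : ∀ {F : C}, Rep F → Acc (fun X Y : C => Rep X ∧ ∃ m : X ⟶ Y, Mono m ∧ ¬ IsIso m) F)
    (mult : ∀ {F : C}, Rep F → (∀ x : F ⟶ Z, x = 0) → AT Tor Fin F) {F : C} (hF : Rep F) :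
    ∃ (n : ℕ) (H : C) (j : H ⟶ F) (_ : Mono j), AT Tor Fin H ∧ TowZ Z n (cokernel j) := by
  obtain ⟨n, hn⟩ := h.exists_tow acc mult hF
  exact ⟨n, exists_quotient_tower n hn⟩

end Dev

end K59.DevAbs
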