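import Groth.Agent.TateLoc.K59.DevPrim
import Groth.Agent.TateLoc.K59.DevAbs

/-!
# Strong devissage of affine commutative algebraic groups in characteristic `p`: assembly
-/

set_option autoImplicit false

universe u

open CategoryTheory CategoryTheory.Limits MonoidalCategory CartesianMonoidalCategory MonObj AlgebraicGeometry
open CGrpSh Opposite

namespace K59.DevMain

open DevAbs DevRep DevFin DevKey DevPrim

variable {k : Type u} [Field k]

/-- A short exact sequence of sheaves of points gives a short exact sequence of group schemes. -/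
theorem exists_seq {V W D : Over (Spec (CommRingCat.of k))} [GrpObj V] [IsCommMonObj V] [GrpObj W] [IsCommMonObj W]
    [GrpObj D] [IsCommMonObj D] {A B E : BigSite.Ab Scheme.fppfPrecoverage (Spec (CommRingCat.of k))}
    (i : A ⟶ B) (q : B ⟶ E) (w : i ≫ q = 0) (hs : (ShortComplex.mk i q w).ShortExact)
    (eV : pts Scheme.fppfPrecoverage V ≅ A) (eW : pts Scheme.fppfPrecoverage W ≅ B)
    (eD : pts Scheme.fppfPrecoverage D ≅ E) :
    ∃ (i' : V ⟶ W) (_ : IsMonHom i') (q' : W ⟶ D) (_ : IsMonHom q') (w' : i' ≫ q' = 1),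
      (CGrpSh.seq Scheme.fppfPrecoverage i' q' w').ShortExact ∧
      CGrpSh.ptsMap Scheme.fppfPrecoverage i' = eV.hom ≫ i ≫ eW.inv ∧
      CGrpSh.ptsMap Scheme.fppfPrecoverage q' = eW.hom ≫ q ≫ eD.inv := by
  have hw : (eV.hom ≫ i ≫ eW.inv) ≫ (eW.hom ≫ q ≫ eD.inv) = 0 := by
    simp only [Category.assoc, Iso.inv_hom_id_assoc, reassoc_of% w, zero_comp, comp_zero]
  have hw' : K731.Full.hom (eV.hom ≫ i ≫ eW.inv) ≫ K731.Full.hom (eW.hom ≫ q ≫ eD.inv) = 1 := by
    rw [← K731.Full.hom_comp, hw]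
    rfl
  refine ⟨K731.Full.hom (eV.hom ≫ i ≫ eW.inv), inferInstance, K731.Full.hom (eW.hom ≫ q ≫ eD.inv), inferInstance, hw', ?_,
    K731.Full.ptsMap_hom _, K731.Full.ptsMap_hom _⟩
  refine ShortComplex.shortExact_of_iso (S₁ := ShortComplex.mk i q w)
    (S₂ := CGrpSh.seq Scheme.fppfPrecoverage (K731.Full.hom (eV.hom ≫ i ≫ eW.inv))
      (K731.Full.hom (eW.hom ≫ q ≫ eD.inv)) hw')
    (ShortComplex.isoMk eV.symm eW.symm eD.symm ?_ ?_) hs
  · change eV.inv ≫ CGrpSh.ptsMap Scheme.fppfPrecoverage (K731.Full.hom (eV.hom ≫ i ≫ eW.inv)) = i ≫ eW.inv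
    rw [K731.Full.ptsMap_hom, Iso.inv_hom_id_assoc]
  · change eW.inv ≫ CGrpSh.ptsMap Scheme.fppfPrecoverage (K731.Full.hom (eW.hom ≫ q ≫ eD.inv)) = q ≫ eD.inv
    rw [K731.Full.ptsMap_hom, Iso.inv_hom_id_assoc]

/-- Affine commutative group schemes of finite type over `k`. -/
structure AGrp (k : Type u) [Field k] where
  /-- the scheme -/
  X : Over (Spec (CommRingCat.of k))
  [grp : GrpObj X]
  [comm : IsCommMonObj X]
  [aff : IsAffine X.left]
  [lft : LocallyOfFiniteType X.hom]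

attribute [instance] AGrp.grp AGrp.comm AGrp.aff AGrp.lft

/-- `W` is an extension of `𝔾_a` by `V`. -/
def Step (V W : AGrp k) : Prop :=
  ∃ (i : V.X ⟶ W.X) (_ : IsMonHom i) (q : W.X ⟶ Red.Ga (Spec (CommRingCat.of k))) (_ : IsMonHom q) (w : i ≫ q = 1),
    (CGrpSh.seq Scheme.fppfPrecoverage i q w).ShortExact

theorem exists_agrp {F : BigSite.Ab Scheme.fppfPrecoverage (Spec (CommRingCat.of k))} (h : Rep F) :
    ∃ V : AGrp k, Nonempty (pts Scheme.fppfPrecoverage V.X ≅ F) := by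
  obtain ⟨G, h1, h2, h3, h4, e⟩ := h
  exact ⟨⟨G⟩, e⟩

theorem exists_tower (n : ℕ) : ∀ {F : BigSite.Ab Scheme.fppfPrecoverage (Spec (CommRingCat.of k))}, Rep F →
    TowZ (pts Scheme.fppfPrecoverage (Red.Ga (Spec (CommRingCat.of k)))) n F →
    ∃ V : _root_.Fin (n + 1) → AGrp k, (∀ j : _root_.Fin n, Step (V j.castSucc) (V j.succ)) ∧
      IsZero (pts Scheme.fppfPrecoverage (V 0).X) ∧ Nonempty (pts Scheme.fppfPrecoverage (V (Fin.last n)).X ≅ F) := by
  induction n with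
  | zero =>
    intro F hF h0
    obtain ⟨V, ⟨e⟩⟩ := exists_agrp hF
    exact ⟨fun _ => V, fun j => j.elim0, h0.of_iso e, ⟨e⟩⟩
  | succ n ih =>
    intro F hF ⟨q, hq, hT⟩
    have hK : Rep (kernel q) := rep_kernel q hF rep_Ga
    obtain ⟨V, hV, hV0, ⟨e⟩⟩ := ih hK hT
    obtain ⟨W, ⟨eW⟩⟩ := exists_agrp hF
    refine ⟨Fin.snoc (α := fun _ => AGrp k) V W, fun j => ?_, ?_, ?_⟩
    · refine Fin.lastCases ?_ (fun j => ?_) j
      · rw [Fin.succ_last, Fin.snoc_last, Fin.snoc_castSucc]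
        obtain ⟨i', h1, q', h2, w', h3, -⟩ := exists_seq (kernel.ι q) q (kernel.condition q) (ses_kernel q) e eW (Iso.refl _)
        exact ⟨i', h1, q', h2, w', h3⟩
      · rw [Fin.succ_castSucc, Fin.snoc_castSucc, Fin.snoc_castSucc]
        exact hV j
    · have : (0 : _root_.Fin (n + 1 + 1)) = (0 : _root_.Fin (n + 1)).castSucc := rfl
      rw [this, Fin.snoc_castSucc]
      exact hV0
    · rw [Fin.snoc_last]
      exact ⟨eW⟩

/-- Sheaves of points of tori. -/
def Tor (F : BigSite.Ab Scheme.fppfPrecoverage (Spec (CommRingCat.of k))) : Prop :=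
  ∃ (T : Over (Spec (CommRingCat.of k))) (_ : GrpObj T) (_ : IsCommMonObj T), IsAffine T.left ∧ LocallyOfFiniteType T.hom ∧
    Red.IsTorus T ∧ Nonempty (CGrpSh.pts Scheme.fppfPrecoverage T ≅ F)

theorem tor_iso {F F' : BigSite.Ab Scheme.fppfPrecoverage (Spec (CommRingCat.of k))} (e : F ≅ F') (h : Tor F) : Tor F' := by
  obtain ⟨T, h1, h2, h3, h4, h5, ⟨e'⟩⟩ := h
  exact ⟨T, h1, h2, h3, h4, h5, ⟨e'.trans e⟩⟩

theorem dev (p : ℕ) [Fact p.Prime] [CharP k p] :
    Dev (pts Scheme.fppfPrecoverage (Red.Ga (Spec (CommRingCat.of k)))) (Tor (k := k)) (DevFin.Fin (k := k)) (Rep (k := k)) where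
  tor_iso := fun e h => tor_iso e h
  fin_iso := fun e h => fin_iso e h
  rep_iso := fun e h => rep_iso e h
  rep_Z := rep_Ga
  rep_ker := fun f h h' => rep_kernel f h h'
  rep_coker := fun f _ h h' => rep_cokernel f h h'
  fin_rep := fun h => fin_rep h
  fin_ext := fun i q w hs hB hA hD => fin_ext i q w hs hB hA hD
  dich := fun m _ h => dich m h
  notfin := notfin
  key := fun i q w hs hM hE => key p i q w hs hM hE

end K59.DevMain
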