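import Groth.Agent.TateLoc.K620.HopfPow
import Groth.Agent.TateLoc.K59.DevMain

/-!
# Groups of multiplicative type of finite type over a field are extensions of a finite group by a torus
-/

set_option autoImplicit false

universe u

open CategoryTheory CategoryTheory.Limits MonoidalCategory CartesianMonoidalCategory MonObj AlgebraicGeometry
open CGrpSh Opposite TensorProduct

namespace K59.DevTor

open DevAbs DevRep DevFin DevKey DevPrim DevMain K620.HopfPow Groth.Agent.Sga3A.MTBasis Groth.Agent.Books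
  Groth.Agent.Books.AffBridge Groth.Agent.Books.AffBridge2

variable {k : Type u} [Field k]

/-- A group of multiplicative type `M = Spec A` of finite type over a field: the image `T = Spec D` of the `N`-th power map is a
torus, the kernel of `M → T` is finite and `N : T → T` is an epimorphism. -/
theorem exists_torus' (A : Type u) [CommRing A] [HopfAlgebra k A] [Algebra.FiniteType k A] [Coalgebra.IsCocomm k A]
    (hA : SGA3b.IsMultTypeConst k A) :
    ∃ (D : Type u) (_ : CommRing D) (_ : HopfAlgebra k D) (q : A →ₐc[k] D) (φ : D →ₐc[k] A), Function.Surjective q ∧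
      Function.Injective φ ∧ Red.IsTorus (SpecOver k D) ∧
      Module.Finite k (A ⧸ Ideal.map (φ : D →ₐ[k] A) (RingHom.ker (Bialgebra.counitAlgHom k D))) ∧
      Function.Injective (fun d => q (φ d)) := by
  obtain ⟨R', _, _, hff, M, _, ⟨e⟩⟩ := hA
  have hnt : Nontrivial R' := by
    have h0 : Nontrivial (k ⊗[k] R') := inferInstance
    exact (TensorProduct.lid k R').toEquiv.symm.nontrivial
  let g := GBasis.ofBialgEquiv e
  have hfg : Group.FG M := Groth.Agent.Sga3A.MTConst.fg_of_gbasis g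
  obtain ⟨N, hN, hexp⟩ := exists_exponent M
  obtain ⟨D, _, _, q, φ, hq, hφ, hqφ⟩ := exists_range (powB k A N)
  have h : ∀ a, φ (q a) = SGA3b.powConv k A N a := fun a => (hqφ a).trans (powB_apply N a)
  obtain ⟨gD⟩ := nonempty_gbasis g N q hq φ hφ h
  have htf : ∀ (x : (powMonoidHom N : M →* M).range) (n : ℕ), 0 < n → x ^ n = 1 → x = 1 := by
    rintro ⟨_, m, rfl⟩ n hn h1
    have h2 : (m ^ N) ^ n = 1 := congrArg Subtype.val h1
    rw [← pow_mul] at h2
    have h3 := hexp m (isOfFinOrder_iff_pow_eq_one.mpr ⟨N * n, Nat.mul_pos hN hn, h2⟩)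
    exact Subtype.ext h3
  refine ⟨D, inferInstance, inferInstance, q, φ, hq, hφ, ?_, ?_, ?_⟩
  · have hfg' : Group.FG (powMonoidHom N : M →* M).range := Group.fg_range _
    obtain ⟨r, ⟨e'⟩⟩ := exists_mulEquiv (powMonoidHom N : M →* M).range htf
    have hT : SGA3b.IsTorusConst k D := ⟨R', _, _, hff, r, ⟨(gD.reindex e').bialgEquiv.symm⟩⟩
    exact Groth.Agent.Sga3.H786.TCAff.isTorus_specOver (Groth.Agent.Sga3.H786.TCAff.isTorus_of_const hT)
  · have h1 : Ideal.map (φ : D →ₐ[k] A) (RingHom.ker (Bialgebra.counitAlgHom k D)) = SGA3b.torsionIdeal k A N := by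
      rw [← map_ker_counit_of_surjective q hq, SGA3b.torsionIdeal]
      have h2 : ((φ : D →ₐ[k] A).comp (q : A →ₐ[k] D)) = SGA3b.powConv k A N := by
        ext a; exact h a
      rw [← h2]
      exact Ideal.map_map _ _
    rw [h1]
    exact Groth.Agent.Sga3A.MTTorsion.finite_quot g N hN
  · have hpow : ∀ d, q (φ d) = SGA3b.powConv k D N d := by
      intro d
      obtain ⟨a, rfl⟩ := hq d
      rw [h, Groth.Agent.Sga3A.PowConv.powConv_map]
    have hinj : Function.Injective (SGA3b.powConv R' (R' ⊗[k] D) N) := by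
      have hb : ∀ x, SGA3b.powConv R' (R' ⊗[k] D) N (gD.b x) = gD.b (x ^ N) := fun x => by
        rw [Groth.Agent.Sga3A.MTTorsion.powConv_groupLike (gD.gl x)]
        exact (map_pow gD.hom x N).symm
      have hxN : Function.Injective (fun x : (powMonoidHom N : M →* M).range => x ^ N) := by
        intro x y hxy
        have h1 : (x * y⁻¹) ^ N = 1 := by
          rw [mul_pow, inv_pow]
          change x ^ N * (y ^ N)⁻¹ = 1
          rw [show x ^ N = y ^ N from hxy, mul_inv_cancel]
        exact mul_inv_eq_one.1 (htf _ N hN h1)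
      have hli : LinearIndependent R' (fun x => SGA3b.powConv R' (R' ⊗[k] D) N (gD.b x)) := by
        simp only [hb]
        exact gD.b.linearIndependent.comp _ hxN
      have h4 : (SGA3b.powConv R' (R' ⊗[k] D) N).toLinearMap =
          (Finsupp.linearCombination R' (fun x => SGA3b.powConv R' (R' ⊗[k] D) N (gD.b x))) ∘ₗ gD.b.repr.toLinearMap :=
        gD.b.ext fun x => by simp
      have h5 : (SGA3b.powConv R' (R' ⊗[k] D) N : R' ⊗[k] D → R' ⊗[k] D) =
          (Finsupp.linearCombination R' (fun x => SGA3b.powConv R' (R' ⊗[k] D) N (gD.b x))) ∘ gD.b.repr :=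
        funext fun z => DFunLike.congr_fun h4 z
      rw [h5]
      exact Function.Injective.comp hli gD.b.repr.injective
    intro x y hxy
    have h1 : SGA3b.powConv k D N x = SGA3b.powConv k D N y := by
      rw [← hpow, ← hpow]; exact hxy
    have h2 : (1 : R') ⊗ₜ[k] x = (1 : R') ⊗ₜ[k] y := by
      apply hinj
      rw [Groth.Agent.Sga3A.PowConv.powConv_tmul, Groth.Agent.Sga3A.PowConv.powConv_tmul, h1]
    exact Algebra.TensorProduct.includeRight_injective (R := k) (A := R') (B := D) (algebraMap k R').injective h2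

/-- An injective bialgebra map gives an epimorphism of sheaves, with kernel the sheaf of points of the quotient. -/
theorem exists_ses {A B : Type u} [CommRing A] [HopfAlgebra k A] [Algebra.FiniteType k A] [Coalgebra.IsCocomm k A]
    [CommRing B] [HopfAlgebra k B] [IsCommMonObj (SpecOver k A)] [IsCommMonObj (SpecOver k B)]
    (φ : B →ₐc[k] A) (hφ : Function.Injective φ) [IsMonHom (specMap k (φ : B →ₐ[k] A))] :
    ∃ (F : Over (Spec (CommRingCat.of k))) (_ : GrpObj F) (_ : IsCommMonObj F) (i : F ⟶ SpecOver k A) (_ : IsMonHom i)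
      (w : i ≫ specMap k (φ : B →ₐ[k] A) = 1),
      (CGrpSh.seq Scheme.fppfPrecoverage i (specMap k (φ : B →ₐ[k] A)) w).ShortExact ∧
      (Module.Finite k (A ⧸ Ideal.map (φ : B →ₐ[k] A) (RingHom.ker (Bialgebra.counitAlgHom k B))) → IsFinite F.hom) := by
  have hB : Coalgebra.IsCocomm k B := K620.HopfSeq.isCocomm_of_injective φ hφ
  have hI : (Ideal.map (φ : B →ₐ[k] A) (RingHom.ker (Bialgebra.counitAlgHom k B))).IsHopfIdeal k := isHopfIdeal_map φ
  have h1 : IsMonHom (specMap k (Ideal.Quotient.mkₐ k (Ideal.map (φ : B →ₐ[k] A)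
      (RingHom.ker (Bialgebra.counitAlgHom k B))))) :=
    isMonHom_specMap k (Bialgebra.Quotient.mkBialgHom (R := k) (Ideal.map (φ : B →ₐ[k] A)
      (RingHom.ker (Bialgebra.counitAlgHom k B))))
  have h2 : Mono (specMap k (Ideal.Quotient.mkₐ k (Ideal.map (φ : B →ₐ[k] A)
      (RingHom.ker (Bialgebra.counitAlgHom k B))))) := by
    have : IsClosedImmersion (specMap k (Ideal.Quotient.mkₐ k (Ideal.map (φ : B →ₐ[k] A)
      (RingHom.ker (Bialgebra.counitAlgHom k B))))).left :=
      (isClosedImmersion_specMap_iff k _).2 (Ideal.Quotient.mkₐ_surjective k _)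
    have h3 : Mono ((Over.forget _).map (specMap k (Ideal.Quotient.mkₐ k (Ideal.map (φ : B →ₐ[k] A)
      (RingHom.ker (Bialgebra.counitAlgHom k B)))))) := inferInstanceAs (Mono (specMap k _).left)
    exact (Over.forget _).mono_of_mono_map h3
  have h3 := Groth.Agent.Sga3.H830.CommAux.isCommMonObj_of_mono (specMap k (Ideal.Quotient.mkₐ k (Ideal.map (φ : B →ₐ[k] A)
      (RingHom.ker (Bialgebra.counitAlgHom k B)))))
  have hker := isKernel_specMap k (φ : B →ₐ[k] A) _ rfl
  refine ⟨SpecOver k (A ⧸ Ideal.map (φ : B →ₐ[k] A) (RingHom.ker (Bialgebra.counitAlgHom k B))), inferInstance, h3,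
    specMap k (Ideal.Quotient.mkₐ k _), h1, K620.HopfSeq.isKernel_w hker,
    K620.HopfSeq.shortExact_spec φ hφ _ rfl _, fun hfin => ?_⟩
  change IsFinite (Spec.map _)
  rw [IsFinite.SpecMap_iff]
  exact RingHom.finite_algebraMap.2 hfin

theorem fin_of_epi {F Q : BigSite.Ab Scheme.fppfPrecoverage (Spec (CommRingCat.of k))} (f : F ⟶ Q) [Epi f] (hF : Fin F)
    (hQ : Rep Q) : Fin Q := by
  have hK : Rep (kernel f) := rep_kernel f (fin_rep hF) hQ
  obtain ⟨K', k1, k2, k3, k4, ⟨eK⟩⟩ := hK
  obtain ⟨Q', q1, q2, q3, q4, ⟨eQ⟩⟩ := hQ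
  obtain ⟨F', f1, f2, f3, ⟨eF⟩⟩ := hF
  have f4 : IsAffine F'.left := isAffine_of_isAffineHom F'.hom
  have hw : (eK.hom ≫ kernel.ι f ≫ eF.inv) ≫ (eF.hom ≫ f ≫ eQ.inv) = 0 := by
    simp only [Category.assoc, Iso.inv_hom_id_assoc, kernel.condition_assoc, zero_comp, comp_zero]
  have hs' : (ShortComplex.mk (eK.hom ≫ kernel.ι f ≫ eF.inv) (eF.hom ≫ f ≫ eQ.inv) hw).ShortExact := by
    refine ShortComplex.shortExact_of_iso (S₁ := ShortComplex.mk (kernel.ι f) f (kernel.condition f))
      (S₂ := ShortComplex.mk (eK.hom ≫ kernel.ι f ≫ eF.inv) (eF.hom ≫ f ≫ eQ.inv) hw)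
      (ShortComplex.isoMk eK.symm eF.symm eQ.symm ?_ ?_) (ses_kernel f)
    · simp
    · simp
  obtain ⟨-, hfl, hsu⟩ := isKernel_of_shortExact _ _ hw hs'
  refine fin_iso eQ ⟨Q', q1, q2, ?_, ⟨Iso.refl _⟩⟩
  let π := K731.Full.hom (eF.hom ≫ f ≫ eQ.inv)
  have hff := (Flat.flat_and_surjective_iff_faithfullyFlat_of_isAffine π.left).1 ⟨hfl, hsu⟩
  have hinj : Function.Injective (Groth.Agent.Sga3B.AffPts.fnMap π) := hff.injective
  have h1 : Module.Finite k (Groth.Agent.Sga3B.AffPts.Fn F') := K844.FinSub.finite_fn F'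
  have h2 : Module.Finite k (Groth.Agent.Sga3B.AffPts.Fn Q') :=
    Module.Finite.of_injective (Groth.Agent.Sga3B.AffPts.fnMap π).toLinearMap hinj
  exact isFinite_of_finite_fn Q'

/-- In an abelian category: if `π : M → T` is an epimorphism and `j : T → M` is such that `j ≫ π` is an epimorphism, then
`ker π → coker j` is an epimorphism. -/
theorem epi_ker_coker {C : Type*} [Category C] [Abelian C] {T M : C} (j : T ⟶ M) (π : M ⟶ T) [Epi π] [h : Epi (j ≫ π)] :
    Epi (kernel.ι π ≫ cokernel.π j) := by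
  refine Preadditive.epi_of_cancel_zero _ fun {W} u hu => ?_
  have h3 : kernel.ι π ≫ cokernel.π j ≫ u = 0 := by rw [← Category.assoc]; exact hu
  obtain ⟨v, hv⟩ := CokernelCofork.IsColimit.desc' (ses_kernel π).gIsCokernel (cokernel.π j ≫ u) h3
  have hv' : π ≫ v = cokernel.π j ≫ u := hv
  have h4 : (j ≫ π) ≫ v = 0 := by rw [Category.assoc, hv', cokernel.condition_assoc, zero_comp]
  have h5 : v = 0 := by rwa [← cancel_epi (j ≫ π), comp_zero]
  rw [h5, comp_zero] at hv'
  rw [← cancel_epi (cokernel.π j), ← hv', comp_zero]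

/-- Groups of multiplicative type of finite type are almost tori. -/
theorem at_of_mult (A : Type u) [CommRing A] [HopfAlgebra k A] [Algebra.FiniteType k A] [Coalgebra.IsCocomm k A]
    [IsCommMonObj (SpecOver k A)] (hA : SGA3b.IsMultTypeConst k A) :
    AT (Tor (k := k)) (DevFin.Fin (k := k)) (CGrpSh.pts Scheme.fppfPrecoverage (SpecOver k A)) := by
  obtain ⟨D, _, _, q, φ, hq, hφ, hT, hfin, hinj⟩ := exists_torus' A hA
  have hD : Algebra.FiniteType k D := K620.HopfSeq.finiteType_of_injective φ hφ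
  have hDc : Coalgebra.IsCocomm k D := K620.HopfSeq.isCocomm_of_injective φ hφ
  have h1 : IsMonHom (specMap k (q : A →ₐ[k] D)) := isMonHom_specMap k q
  have h2 : IsMonHom (specMap k (φ : D →ₐ[k] A)) := isMonHom_specMap k φ
  have h3 : Mono (specMap k (q : A →ₐ[k] D)) := by
    have : IsClosedImmersion (specMap k (q : A →ₐ[k] D)).left := (isClosedImmersion_specMap_iff k _).2 hq
    have h3 : Mono ((Over.forget _).map (specMap k (q : A →ₐ[k] D))) := inferInstanceAs (Mono (specMap k _).left)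
    exact (Over.forget _).mono_of_mono_map h3
  have h4 : IsCommMonObj (SpecOver k D) := Groth.Agent.Sga3.H830.CommAux.isCommMonObj_of_mono (specMap k (q : A →ₐ[k] D))
  obtain ⟨F, f1, f2, i, f3, w, hs, hFfin⟩ := exists_ses φ hφ
  have h5 : IsMonHom (specMap k ((q.comp φ : D →ₐc[k] D) : D →ₐ[k] D)) := isMonHom_specMap k (q.comp φ)
  obtain ⟨F', f1', f2', i', f3', w', hs', -⟩ := exists_ses (q.comp φ) hinj
  let J := CGrpSh.ptsMap Scheme.fppfPrecoverage (specMap k (q : A →ₐ[k] D))
  let P := CGrpSh.ptsMap Scheme.fppfPrecoverage (specMap k (φ : D →ₐ[k] A))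
  have hP : Epi P := hs.epi_g
  have hJP : Epi (J ≫ P) := by
    have h6 : J ≫ P = CGrpSh.ptsMap Scheme.fppfPrecoverage (specMap k ((q.comp φ : D →ₐc[k] D) : D →ₐ[k] D)) := by
      have h7 : specMap k ((q.comp φ : D →ₐc[k] D) : D →ₐ[k] D) =
          specMap k (q : A →ₐ[k] D) ≫ specMap k (φ : D →ₐ[k] A) := by
        rw [← specMap_comp]; rfl
      apply Sheaf.hom_ext
      ext T x
      apply ULift.ext
      change Additive.ofMul ((x.down.toMul ≫ specMap k (q : A →ₐ[k] D)) ≫ specMap k (φ : D →ₐ[k] A)) =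
        Additive.ofMul (x.down.toMul ≫ specMap k ((q.comp φ : D →ₐc[k] D) : D →ₐ[k] D))
      rw [h7, Category.assoc]
    rw [h6]
    exact hs'.epi_g
  have hJ : Mono J := by
    apply K731.Basic.mono_of_injective
    intro T x y hxy
    have h6 : x.down.toMul ≫ specMap k (q : A →ₐ[k] D) = y.down.toMul ≫ specMap k (q : A →ₐ[k] D) :=
      congrArg (fun z => z.down.toMul) hxy
    exact ULift.ext _ _ ((cancel_mono _).1 h6)
  have hRA : Rep (CGrpSh.pts Scheme.fppfPrecoverage (SpecOver k A)) := by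
    have h7 : IsAffine (SpecOver k A).left := inferInstanceAs (IsAffine (Spec _))
    have h8 : LocallyOfFiniteType (SpecOver k A).hom := (locallyOfFiniteType_specOver_iff k A).2 inferInstance
    exact rep_pts _
  have h7 : IsAffine (SpecOver k D).left := inferInstanceAs (IsAffine (Spec _))
  have h8 : LocallyOfFiniteType (SpecOver k D).hom := (locallyOfFiniteType_specOver_iff k D).2 inferInstance
  have hRD : Rep (CGrpSh.pts Scheme.fppfPrecoverage (SpecOver k D)) := rep_pts _
  have hFk : Fin (kernel P) := fin_iso (isoKernel hs) ⟨F, f1, f2, hFfin hfin, ⟨Iso.refl _⟩⟩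
  have hQ : Fin (cokernel J) := by
    have := epi_ker_coker J P
    exact fin_of_epi (kernel.ι P ≫ cokernel.π J) hFk (rep_cokernel J hRD hRA)
  exact ⟨cokernel J, cokernel.π J, inferInstance, hQ, tor_iso (isoKernel (ses_cokernel J))
    ⟨SpecOver k D, inferInstance, h4, h7, h8, hT, ⟨Iso.refl _⟩⟩⟩

theorem mult {F : BigSite.Ab Scheme.fppfPrecoverage (Spec (CommRingCat.of k))} (hF : Rep F)
    (h : ∀ x : F ⟶ CGrpSh.pts Scheme.fppfPrecoverage (Red.Ga (Spec (CommRingCat.of k))), x = 0) :
    AT (Tor (k := k)) (DevFin.Fin (k := k)) F := by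
  obtain ⟨A, _, _, _, _, _, hA, ⟨e⟩⟩ := exists_mult hF h
  obtain ⟨Q, q, hq, hQ, hT⟩ := at_of_mult A hA
  exact ⟨Q, e.inv ≫ q, epi_comp _ _, hQ, tor_iso (kerIso e q) hT⟩

end K59.DevTor
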