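import Groth.Agent.TateLoc.K59.DevTor

/-!
# Strong devissage of affine commutative algebraic groups over a field of characteristic `p`

`strong`: an affine commutative algebraic group `G` over a field of characteristic `p` is an extension `1 → H → G → U → 1` of a
tower `U` of copies of `𝔾_a` (with the smallest piece zero, each `U_j → U_{j+1} → 𝔾_a` short exact, as in S13474 and S13475) by
an almost torus `H` (`1 → T → H → A → 1`, `T` a torus, `A` finite).

`AGrp k` is the structure of affine commutative algebraic groups over `k`; `exists_incl_proj` puts the tower in the form of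
S13474.
-/

set_option autoImplicit false

universe u

open CategoryTheory CategoryTheory.Limits MonoidalCategory CartesianMonoidalCategory MonObj AlgebraicGeometry
open CGrpSh Opposite

namespace K59.DevStrong

open DevAbs DevRep DevFin DevKey DevPrim DevMain DevTor

variable {k : Type u} [Field k]

/-- A tower in the form of S13474 and S13475. -/
theorem exists_incl_proj {n : ℕ} {U : _root_.Fin (n + 1) → AGrp k} (h : ∀ j : _root_.Fin n, Step (U j.castSucc) (U j.succ)) :
    ∃ (incl : ∀ j : _root_.Fin n, (U j.castSucc).X ⟶ (U j.succ).X)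
      (proj : ∀ j : _root_.Fin n, (U j.succ).X ⟶ Red.Ga (Spec (CommRingCat.of k)))
      (_ : ∀ j, IsMonHom (incl j)) (_ : ∀ j, IsMonHom (proj j)) (w : ∀ j, incl j ≫ proj j = 1),
      ∀ j, (CGrpSh.seq Scheme.fppfPrecoverage (incl j) (proj j) (w j)).ShortExact := by
  choose i hi q hq w hs using h
  exact ⟨i, q, hi, hq, w, hs⟩

/-- Strong devissage, sheaf version: `F` is an extension of a `𝔾_a`-tower by an almost torus. -/
theorem strong_sheaf (p : ℕ) [Fact p.Prime] [CharP k p]
    {F : BigSite.Ab Scheme.fppfPrecoverage (Spec (CommRingCat.of k))} (hF : Rep F) :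
    ∃ (n : ℕ) (H : BigSite.Ab Scheme.fppfPrecoverage (Spec (CommRingCat.of k))) (j : H ⟶ F) (_ : Mono j),
      AT (Tor (k := k)) (DevFin.Fin (k := k)) H ∧
      TowZ (pts Scheme.fppfPrecoverage (Red.Ga (Spec (CommRingCat.of k)))) n (cokernel j) :=
  (dev (k := k) p).exists_main (fun h => acc_rep h) (fun h hx => mult h hx) hF

/-- An extension with `Fin` quotient and `Tor` kernel is representable. -/
theorem rep_of_at {H F : BigSite.Ab Scheme.fppfPrecoverage (Spec (CommRingCat.of k))} (j : H ⟶ F) [Mono j] (hF : Rep F)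
    (hU : Rep (cokernel j)) : Rep H :=
  rep_iso (isoKernel (ses_cokernel j)).symm (rep_kernel (cokernel.π j) hF hU)

/-- A tower over a quotient of a representable sheaf is representable. -/
theorem exists_tower' (n : ℕ) : ∀ {F U : BigSite.Ab Scheme.fppfPrecoverage (Spec (CommRingCat.of k))} (c : F ⟶ U) [Epi c],
    Rep F → TowZ (pts Scheme.fppfPrecoverage (Red.Ga (Spec (CommRingCat.of k)))) n U → Rep (kernel c) := by
  induction n with
  | zero =>
    intro F U c _ hF h0
    have hc : c = 0 := h0.eq_of_tgt _ _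
    have : IsIso (kernel.ι c) := by
      subst hc
      infer_instance
    exact rep_iso (asIso (kernel.ι c)).symm hF
  | succ n ih =>
    intro F U c _ hF ⟨q, hq, hT⟩
    have hK : Rep (kernel (c ≫ q)) := rep_kernel _ hF rep_Ga
    obtain ⟨a, b, w, hs, h1, h2⟩ := ses_ker_comp c q
    have hb : Epi b := hs.epi_g
    exact rep_iso (isoKernel hs).symm (ih b hK hT)

/-- **Strong devissage**, characteristic `p`. -/
theorem strong (p : ℕ) [Fact p.Prime] [CharP k p] (G : Over (Spec (CommRingCat.of k))) [GrpObj G] [IsCommMonObj G]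
    [IsAffine G.left] [LocallyOfFiniteType G.hom] :
    ∃ (T H A : AGrp k) (i : T.X ⟶ H.X) (_ : IsMonHom i) (q : H.X ⟶ A.X) (_ : IsMonHom q) (w : i ≫ q = 1)
      (n : ℕ) (U : _root_.Fin (n + 1) → AGrp k) (f : H.X ⟶ G) (_ : IsMonHom f) (g : G ⟶ (U (Fin.last n)).X)
      (_ : IsMonHom g) (w' : f ≫ g = 1),
      Red.IsTorus T.X ∧ IsFinite A.X.hom ∧ (CGrpSh.seq Scheme.fppfPrecoverage i q w).ShortExact ∧
      (CGrpSh.seq Scheme.fppfPrecoverage f g w').ShortExact ∧
      (∀ j : _root_.Fin n, Step (U j.castSucc) (U j.succ)) ∧ IsZero (pts Scheme.fppfPrecoverage (U 0).X) := by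
  have hG : Rep (pts Scheme.fppfPrecoverage G) := rep_pts G
  obtain ⟨n, H, j, hj, ⟨A, q, hq, hA, hT⟩, hU⟩ := strong_sheaf p hG
  have hHr : Rep H := rep_iso (isoKernel (ses_cokernel j)).symm (exists_tower' n (cokernel.π j) hG hU)
  have hUr : Rep (cokernel j) := rep_cokernel j hHr hG
  obtain ⟨U, hU1, hU2, ⟨eU⟩⟩ := exists_tower n hUr hU
  obtain ⟨H', ⟨eH⟩⟩ := exists_agrp hHr
  obtain ⟨A', a1, a2, a3, ⟨eA⟩⟩ := hA
  have a4 : IsAffine A'.left := isAffine_of_isAffineHom A'.hom
  obtain ⟨T', t1, t2, t3, t4, t5, ⟨eT⟩⟩ := hT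
  obtain ⟨i', h1, q', h2, w', h3, -⟩ := exists_seq (kernel.ι q) q (kernel.condition q) (ses_kernel q) eT eH eA
  obtain ⟨f', g1, g', g2, w'', g3, -⟩ := exists_seq j (cokernel.π j) (cokernel.condition j) (ses_cokernel j) eH (Iso.refl _) eU
  exact ⟨⟨T'⟩, H', ⟨A'⟩, i', h1, q', h2, w', n, U, f', g1, g', g2, w'', t5, a3, h3, g3, hU1, hU2⟩

end K59.DevStrong
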