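import Groth.Agent.TateLoc.K59.TorPow
import Groth.Agent.TateLoc.K59.DevStrong

/-!
# Almost tori: the kernel of `N` is finite
-/

set_option autoImplicit false

universe u

open CategoryTheory CategoryTheory.Limits MonoidalCategory CartesianMonoidalCategory MonObj AlgebraicGeometry
open CGrpSh Opposite TensorProduct

namespace K59.AlmFin

open DevAbs DevRep DevFin DevKey DevPrim DevMain DevTor

variable {k : Type u} [Field k]

/-- Subobjects of finite pieces are finite. -/
theorem fin_of_mono {F F' : BigSite.Ab Scheme.fppfPrecoverage (Spec (CommRingCat.of k))} (f : F ⟶ F') [Mono f] (hF : Rep F)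
    (hF' : Fin F') : Fin F := by
  obtain ⟨G, h1, h2, h3, h4, ⟨e⟩⟩ := hF
  obtain ⟨G', h1', h2', h3', ⟨e'⟩⟩ := hF'
  have h5 : IsAffine G'.left := isAffine_of_isAffineHom G'.hom
  have hm : Mono (e.hom ≫ f ≫ e'.inv) := inferInstance
  have hj : IsClosedImmersion (K731.Full.hom (e.hom ≫ f ≫ e'.inv)).left := isClosedImmersion_of_mono _
  refine fin_iso e ⟨G, h1, h2, ?_, ⟨Iso.refl _⟩⟩
  rw [← Over.w (K731.Full.hom (e.hom ≫ f ≫ e'.inv))]
  infer_instance

/-- The kernel of `N` on an almost torus is finite. -/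
theorem fin_kernel {T H A : BigSite.Ab Scheme.fppfPrecoverage (Spec (CommRingCat.of k))} (j : T ⟶ H) (q : H ⟶ A)
    (w : j ≫ q = 0) (hs : (ShortComplex.mk j q w).ShortExact) (hT : Tor T) (hH : Rep H) (hA : Fin A) (N : ℕ) (hN : 0 < N) :
    Fin (kernel (N • 𝟙 H)) := by
  have hj : Mono j := hs.mono_f
  have hK : Rep (kernel (N • 𝟙 H)) := rep_kernel _ hH hH
  let u : kernel (N • 𝟙 H) ⟶ A := kernel.ι _ ≫ q
  have hku : Rep (kernel u) := rep_kernel u hK (fin_rep hA)
  have hcu : Rep (cokernel (kernel.ι u)) := rep_cokernel _ hku hK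
  -- the kernel of `u` is the kernel of `N` on `T`
  have h1 : Fin (kernel u) := by
    have h2 : (kernel.ι u ≫ kernel.ι (N • 𝟙 H)) ≫ q = 0 := by
      rw [Category.assoc]; exact kernel.condition u
    obtain ⟨v, hv⟩ := KernelFork.IsLimit.lift' hs.fIsKernel _ h2
    have hv' : v ≫ j = kernel.ι u ≫ kernel.ι (N • 𝟙 H) := hv
    have h3 : v ≫ (N • 𝟙 T) = 0 := by
      have e1 : v ≫ (N • 𝟙 T) = N • v := by
        rw [Preadditive.comp_nsmul]; exact congrArg (fun z => N • z) (Category.comp_id v)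
      rw [← cancel_mono j, e1, Preadditive.nsmul_comp, hv', zero_comp]
      have h4 : kernel.ι (N • 𝟙 H) ≫ (N • 𝟙 H) = 0 := kernel.condition _
      rw [Preadditive.comp_nsmul, Category.comp_id] at h4
      rw [← Preadditive.comp_nsmul, h4, comp_zero]
    let v' : kernel u ⟶ kernel (N • 𝟙 T) := kernel.lift _ v h3
    have hv'm : Mono v' := by
      have h5 : v' ≫ kernel.ι (N • 𝟙 T) ≫ j = kernel.ι u ≫ kernel.ι (N • 𝟙 H) := by
        rw [← Category.assoc, kernel.lift_ι, hv']
      have : Mono (v' ≫ kernel.ι (N • 𝟙 T) ≫ j) := by rw [h5]; infer_instance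
      exact mono_of_mono v' (kernel.ι (N • 𝟙 T) ≫ j)
    exact fin_of_mono v' hku (TorPow.tor hT N hN).2
  -- the image of `u` is a subobject of `A`
  have h2 : Fin (cokernel (kernel.ι u)) := by
    have hm : Mono (Abelian.factorThruCoimage u) := inferInstance
    exact fin_of_mono (Abelian.factorThruCoimage u) hcu hA
  exact fin_ext _ _ _ (ses_cokernel (kernel.ι u)) hK h1 h2

end K59.AlmFin
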