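import Groth.Agent.TateLoc.K59.CdLoc
import Groth.Agent.TateLoc.K59.DevAbs
import Groth.Agent.TateLoc.K809.Les
import Groth.Agent.GaDual.K771.FppfGa
import Groth.Agent.S5714
import Groth.Agent.S0108
import Groth.Prelude.Def_GmPts2

/-!
# `H²(k, G_m)` is divisible for a local field `k`
-/

set_option autoImplicit false

universe w v u

open CategoryTheory CategoryTheory.Limits AlgebraicGeometry Abelian K809.Les

namespace K59.BrDiv

/-- Surjectivity of an endomorphism on `Ext` from vanishing for the kernel and the cokernel. -/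
theorem surj_of {C : Type u} [Category.{v} C] [Abelian C] [HasExt.{w} C] (X : C) {G H : C} (f : G ⟶ H) (n : ℕ)
    (h1 : Subsingleton (Ext X (kernel f) (n + 1))) (h2 : Subsingleton (Ext X (cokernel f) n)) :
    Function.Surjective (mp X f n) := by
  have s1 := DevAbs.ses_cokernel (kernel.ι f)
  have hm : Mono (Abelian.factorThruCoimage f) := inferInstance
  have s2 := DevAbs.ses_cokernel (Abelian.factorThruCoimage f)
  have hfac : cokernel.π (kernel.ι f) ≫ Abelian.factorThruCoimage f = f := Abelian.coimage.fac f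
  have hc : Subsingleton (Ext X (cokernel (Abelian.factorThruCoimage f)) n) := by
    have e : cokernel f ≅ cokernel (Abelian.factorThruCoimage f) :=
      (cokernelIsoOfEq hfac.symm).trans (cokernelEpiComp (cokernel.π (kernel.ι f)) (Abelian.factorThruCoimage f))
    exact (mpEquiv X e n).symm.subsingleton
  intro x
  obtain ⟨y, hy⟩ := (exact₂ X s2 n x).1 (Subsingleton.elim _ _)
  obtain ⟨z, hz⟩ := (exact₃ X s1 n y).1 (Subsingleton.elim _ _)
  refine ⟨z, ?_⟩
  rw [← hy, ← hz]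
  have := mp_comp X (cokernel.π (kernel.ι f)) (Abelian.factorThruCoimage f) n z
  rw [hfac] at this
  exact this

variable (k : Type u) [Field k]

/-- Sheaves killed by `n`. -/
theorem killedBy {X : Scheme.{u}} {F : EtCoh.Ab X} {n : ℕ} (h : n • 𝟙 F = 0) : EtCoh.KilledBy n F := by
  intro U s
  have h1 : ∀ m : ℕ, (m • 𝟙 F : F ⟶ F).hom.app (Opposite.op U) s = m • s := by
    intro m
    induction m with
    | zero => rw [zero_smul, zero_smul]; rfl
    | succ m ih =>
      rw [succ_nsmul, succ_nsmul, ← ih]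
      rfl
  rw [← h1, h]
  rfl

theorem nsmul_kernel {C : Type u} [Category.{v} C] [Abelian C] (G : C) (n : ℕ) : n • 𝟙 (kernel (n • 𝟙 G)) = 0 := by
  rw [← cancel_mono (kernel.ι (n • 𝟙 G)), zero_comp, Preadditive.nsmul_comp, Category.id_comp]
  have h := kernel.condition (n • 𝟙 G)
  rwa [Preadditive.comp_nsmul, Category.comp_id] at h

theorem nsmul_cokernel {C : Type u} [Category.{v} C] [Abelian C] (G : C) (n : ℕ) : n • 𝟙 (cokernel (n • 𝟙 G)) = 0 := by
  rw [← cancel_epi (cokernel.π (n • 𝟙 G)), comp_zero, Preadditive.comp_nsmul, Category.comp_id]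
  have h := cokernel.condition (n • 𝟙 G)
  rwa [Preadditive.nsmul_comp, Category.id_comp] at h

theorem isPrimary {X : Scheme.{u}} {F : EtCoh.Ab X} {n : ℕ} (h : n • 𝟙 F = 0) : Dix.IsPrimaryTorsion n F := fun U s x =>
  ⟨U, 𝟙 U, ⟨x, rfl⟩, 1, by
    rw [pow_one]
    exact killedBy h U _⟩

theorem divisible_prime_et (hcd : ∀ ℓ : ℕ, ℓ.Prime → Dix.CohDimLEAt (Spec (CommRingCat.of k)) ℓ 2) (ℓ : ℕ) (hℓ : ℓ.Prime)
    (x : EtCoh.H (Spec (CommRingCat.of k)) (EtCoh.Gm (Spec (CommRingCat.of k))) 2) : ∃ y, ℓ • y = x := by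
  have hs : Function.Surjective (mp ((constantSheaf (Spec (CommRingCat.of k)).smallEtaleTopology AddCommGrpCat.{u + 1}).obj
      (AddCommGrpCat.of (ULift ℤ))) (ℓ • 𝟙 (EtCoh.Gm (Spec (CommRingCat.of k)))) 2) := by
    refine surj_of _ _ 2 (hcd ℓ hℓ _ (isPrimary (nsmul_kernel _ ℓ)) 3 (by norm_num)) ?_
    by_cases h0 : (ℓ : k) = 0
    · have hF : Fact ℓ.Prime := ⟨hℓ⟩
      have : CharP k ℓ := (CharP.charP_iff_prime_eq_zero hℓ).2 h0
      exact Groth.Agent.Etbc.H214.ResCd.cd_charP_self k ℓ _ (isPrimary (nsmul_cokernel _ ℓ)) 2 (by norm_num)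
    · have hu : IsUnit (ℓ : Γ(Spec (CommRingCat.of k), ⊤)) := by
        have h1 : IsUnit (ℓ : k) := isUnit_iff_ne_zero.2 h0
        have h2 := h1.map (Scheme.ΓSpecIso (CommRingCat.of k)).inv.hom
        rwa [map_natCast] at h2
      have hE : Epi (EtCoh.powMap (Spec (CommRingCat.of k)) ℓ) := Groth.Agent.S0108.result _ ℓ hu
      have hE' : Epi (ℓ • 𝟙 (EtCoh.Gm (Spec (CommRingCat.of k)))) := hE
      have hz : IsZero (cokernel (ℓ • 𝟙 (EtCoh.Gm (Spec (CommRingCat.of k))))) := isZero_cokernel_of_epi _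
      refine subsingleton_of_forall_eq 0 fun x => ?_
      have := mp_id _ 2 x
      rw [← this, hz.eq_of_src (𝟙 _) 0, mp_zero]
  obtain ⟨y, hy⟩ := hs x
  refine ⟨y, ?_⟩
  rw [mp_nsmul_id] at hy
  exact hy

/-- étale and fppf cohomology of `G_m`. -/
theorem exists_equiv (X : Scheme.{u}) (q : ℕ) :
    Nonempty (EtCoh.H X (EtCoh.Gm X) q ≃+ BigSite.H Scheme.fppfPrecoverage X (CGrpSh2.Gm Scheme.fppfPrecoverage X) q) := by
  have := K771.FppfGa.aCont X
  obtain ⟨e⟩ := Groth.Agent.Etrest.RAcyc.nonempty_extAddEquiv (EtFppf.aAdj X)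
    (Groth.Agent.Etrest.FppfExact.aPush_injective X) (G := EtDl.GmF X) (fun q hq => Groth.Agent.S5714.result X q hq)
    ((constantSheaf X.smallEtaleTopology AddCommGrpCat.{u + 1}).obj (AddCommGrpCat.of (ULift ℤ))) q
  have e2 : Abelian.Ext ((EtFppf.aPull X).obj ((constantSheaf X.smallEtaleTopology AddCommGrpCat.{u + 1}).obj
      (AddCommGrpCat.of (ULift ℤ)))) (EtDl.GmF X) q ≃+ EtFppf.HF X (EtDl.GmF X) q :=
    (((Abelian.extFunctor q).mapIso
      (Groth.Agent.Etrest.FppfExact.constIso X (AddCommGrpCat.of (ULift ℤ))).symm.op).app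
      (EtDl.GmF X)).addCommGroupIsoToAddEquiv
  have e3 : EtFppf.HF X (EtDl.GmF X) q ≃+ BigSite.H Scheme.fppfPrecoverage X (CGrpSh2.Gm Scheme.fppfPrecoverage X) q :=
    mpEquiv _ (GmPts.gmFIso X).symm q
  exact ⟨(e.trans e2).trans e3⟩

theorem divisible_of_prime {A : Type*} [AddCommGroup A] (h : ∀ ℓ : ℕ, ℓ.Prime → ∀ x : A, ∃ y, ℓ • y = x) (n : ℕ)
    (hn : 0 < n) : ∀ x : A, ∃ y, n • y = x := by
  induction n using Nat.recOnMul with
  | zero => exact absurd hn (lt_irrefl _)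
  | one => exact fun x => ⟨x, one_smul _ _⟩
  | prime p hp => exact h p hp
  | mul a b ha hb =>
    intro x
    obtain ⟨y, rfl⟩ := ha (Nat.pos_of_mul_pos_right hn) x
    obtain ⟨z, rfl⟩ := hb (Nat.pos_of_mul_pos_left hn) y
    exact ⟨z, by rw [mul_smul]⟩

/-- **`H²(k, G_m)` is divisible** for fields with `cd_ℓ ≤ 2` for all `ℓ`. -/
theorem divisible (hcd : ∀ ℓ : ℕ, ℓ.Prime → Dix.CohDimLEAt (Spec (CommRingCat.of k)) ℓ 2) (n : ℕ) (hn : 0 < n)
    (x : BigSite.H Scheme.fppfPrecoverage (Spec (CommRingCat.of k))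
      (CGrpSh2.Gm Scheme.fppfPrecoverage (Spec (CommRingCat.of k))) 2) : ∃ y, n • y = x := by
  obtain ⟨e⟩ := exists_equiv (Spec (CommRingCat.of k)) 2
  obtain ⟨y, hy⟩ := divisible_of_prime (divisible_prime_et k hcd) n hn (e.symm x)
  refine ⟨e y, ?_⟩
  rw [← map_nsmul, hy, AddEquiv.apply_symm_apply]

end K59.BrDiv
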