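import Groth.Agent.TateLoc.K59.DevRep
import Groth.Agent.BddFin.K844.FinSub2
import Groth.Agent.S0084
import Groth.Agent.WittGrp.K718.Sect

/-!
# Finite and almost finite pieces: subgroups of the additive group, extensions, Noetherian induction
-/

set_option autoImplicit false

universe u

open CategoryTheory CategoryTheory.Limits MonoidalCategory CartesianMonoidalCategory MonObj AlgebraicGeometry
open CGrpSh Opposite

namespace K59.DevFin

open DevRep Groth.Agent.Books.AffBridge Groth.Agent.Sga3B.GaPts Groth.Agent.Sga3B.AffPts Groth.Agent.Sga3B.RootHomDict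

variable {k : Type u} [Field k]

/-! ### Noetherian induction -/

/-- proper subobjects -/
def Sub (F F' : BigSite.Ab Scheme.fppfPrecoverage (Spec (CommRingCat.of k))) : Prop :=
  Rep F ∧ ∃ m : F ⟶ F', Mono m ∧ ¬ IsIso m

theorem acc_iso {F F' : BigSite.Ab Scheme.fppfPrecoverage (Spec (CommRingCat.of k))} (e : F ≅ F') (h : Acc Sub F) :
    Acc Sub F' := by
  refine Acc.intro _ fun X hX => h.inv ?_
  obtain ⟨h1, m, h2, h3⟩ := hX
  refine ⟨h1, m ≫ e.inv, mono_comp _ _, fun h4 => h3 ?_⟩
  have : m = (m ≫ e.inv) ≫ e.hom := by simp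
  rw [this]
  infer_instance

theorem surjective_fnMap {N G : Over (Spec (CommRingCat.of k))} [IsAffine G.left] (i : N ⟶ G) [IsClosedImmersion i.left] :
    Function.Surjective (fnMap i) :=
  (IsClosedImmersion.isAffine_surjective_of_isAffine i.left).2

theorem isIso_of_injective {N G : Over (Spec (CommRingCat.of k))} [IsAffine G.left] (i : N ⟶ G) [IsClosedImmersion i.left]
    (h : Function.Injective (fnMap i)) : IsIso i := by
  have h1 : IsIso i.left := IsClosedImmersion.isIso_of_injective_of_isAffine h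
  have h2 : IsIso ((Over.forget _).map i) := h1
  exact isIso_of_reflects_iso i (Over.forget _)

theorem isIso_ptsMap {N G : Over (Spec (CommRingCat.of k))} [GrpObj N] [IsCommMonObj N] [GrpObj G] [IsCommMonObj G]
    (j : N ⟶ G) [IsMonHom j] [IsIso j] : IsIso (CGrpSh.ptsMap Scheme.fppfPrecoverage j) := by
  have h1 : IsMonHom (asIso j).hom := ‹IsMonHom j›
  have h2 : IsMonHom (asIso j).inv := inferInstance
  refine ⟨CGrpSh.ptsMap Scheme.fppfPrecoverage (asIso j).inv, ?_, ?_⟩
  · apply Sheaf.hom_ext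
    ext T x
    apply ULift.ext
    change Additive.ofMul ((x.down.toMul ≫ j) ≫ (asIso j).inv) = x.down
    rw [Category.assoc, asIso_inv, IsIso.hom_inv_id, Category.comp_id]
    rfl
  · apply Sheaf.hom_ext
    ext T x
    apply ULift.ext
    change Additive.ofMul ((x.down.toMul ≫ (asIso j).inv) ≫ j) = x.down
    rw [Category.assoc, asIso_inv, IsIso.inv_hom_id, Category.comp_id]
    rfl

theorem acc_rep {F : BigSite.Ab Scheme.fppfPrecoverage (Spec (CommRingCat.of k))} (h : Rep F) : Acc Sub F := by
  obtain ⟨G, h1, h2, h3, h4, ⟨e⟩⟩ := h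
  refine acc_iso e ?_
  have hnoeth : IsNoetherianRing (Fn G) := by
    have h5 : LocallyOfFiniteType (SpecOver k (Fn G)).hom := by
      rw [← Over.w (inv (toSpecFn G))]
      have : IsIso (inv (toSpecFn G)).left := inferInstanceAs (IsIso ((Over.forget _).map _))
      infer_instance
    have h6 : Algebra.FiniteType k (Fn G) :=
      (Groth.Agent.Books.AffBridge2.locallyOfFiniteType_specOver_iff k (Fn G)).1 h5
    exact Algebra.FiniteType.isNoetherianRing k (Fn G)
  have key : ∀ (I : Ideal (Fn G)) (N : Over (Spec (CommRingCat.of k))) [GrpObj N] [IsCommMonObj N] (i : N ⟶ G)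
      [IsClosedImmersion i.left], RingHom.ker (fnMap i) = I → Acc Sub (pts Scheme.fppfPrecoverage N) := by
    intro I
    induction I using WellFoundedGT.induction with
    | ind I ih =>
      intro N _ _ i _ hI
      have hNa : IsAffine N.left := isAffine_of_isAffineHom i.left
      refine Acc.intro _ fun X hX => ?_
      obtain ⟨⟨N', g1, g2, g3, g4, ⟨e'⟩⟩, m, hm, hni⟩ := hX
      refine acc_iso e' ?_
      have hm' : Mono (e'.hom ≫ m) := mono_comp _ _
      let j := K731.Full.hom (e'.hom ≫ m)
      have hj : IsClosedImmersion j.left := isClosedImmersion_of_mono (e'.hom ≫ m)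
      have hji : IsClosedImmersion (j ≫ i).left := by
        rw [Over.comp_left]; infer_instance
      refine ih (RingHom.ker (fnMap (j ≫ i))) ?_ N' (j ≫ i) rfl
      have hle : ∀ x, fnMap (j ≫ i) x = fnMap j (fnMap i x) := fun x => by
        rw [fnMap_apply, fnMap_apply, fnMap_apply, Over.comp_left, Scheme.Hom.comp_appTop]
        rfl
      rw [← hI]
      refine lt_of_le_of_ne (fun x hx => ?_) (fun heq => ?_)
      · rw [RingHom.mem_ker] at hx ⊢
        rw [hle, hx, map_zero]
      · have hinj : Function.Injective (fnMap j) := by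
          rw [injective_iff_map_eq_zero]
          intro x hx
          obtain ⟨y, rfl⟩ := surjective_fnMap i x
          have : y ∈ RingHom.ker (fnMap (j ≫ i)) := by rw [RingHom.mem_ker, hle, hx]
          rw [← heq] at this
          exact this
        have hiso : IsIso j := isIso_of_injective j hinj
        apply hni
        have h7 : IsIso (e'.hom ≫ m) := by
          have h8 : CGrpSh.ptsMap Scheme.fppfPrecoverage j = e'.hom ≫ m := K731.Full.ptsMap_hom _
          rw [← h8]
          exact isIso_ptsMap j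
        exact (isIso_comp_left_iff e'.hom m).1 h7
  exact key _ G (𝟙 G) rfl

/-! ### Finite pieces -/

/-- Sheaves of points of finite commutative group schemes. -/
def Fin (F : BigSite.Ab Scheme.fppfPrecoverage (Spec (CommRingCat.of k))) : Prop :=
  ∃ (G : Over (Spec (CommRingCat.of k))) (_ : GrpObj G) (_ : IsCommMonObj G),
    IsFinite G.hom ∧ Nonempty (CGrpSh.pts Scheme.fppfPrecoverage G ≅ F)

theorem fin_iso {F F' : BigSite.Ab Scheme.fppfPrecoverage (Spec (CommRingCat.of k))} (e : F ≅ F') (h : Fin F) : Fin F' := by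
  obtain ⟨G, h1, h2, h3, ⟨e'⟩⟩ := h
  exact ⟨G, h1, h2, h3, ⟨e'.trans e⟩⟩

theorem fin_rep {F : BigSite.Ab Scheme.fppfPrecoverage (Spec (CommRingCat.of k))} (h : Fin F) : Rep F := by
  obtain ⟨G, h1, h2, h3, ⟨e⟩⟩ := h
  exact ⟨G, h1, h2, isAffine_of_isAffineHom G.hom, inferInstance, ⟨e⟩⟩

/-- If `pts G` is a finite piece then `G` is finite. -/
theorem isFinite_of_fin {G : Over (Spec (CommRingCat.of k))} [GrpObj G] [IsCommMonObj G]
    (h : Fin (CGrpSh.pts Scheme.fppfPrecoverage G)) : IsFinite G.hom := by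
  obtain ⟨G', h1, h2, h3, ⟨e⟩⟩ := h
  let i := (K731.Full.iso e).inv
  have hi : IsIso i.left := inferInstanceAs (IsIso ((Over.forget _).map i))
  rw [← Over.w i]
  infer_instance

theorem fin_ext {A B D : BigSite.Ab Scheme.fppfPrecoverage (Spec (CommRingCat.of k))} (i : A ⟶ B) (q : B ⟶ D)
    (w : i ≫ q = 0) (hs : (ShortComplex.mk i q w).ShortExact) (hB : Rep B) (hA : Fin A) (hD : Fin D) : Fin B := by
  obtain ⟨B', b1, b2, b3, b4, ⟨eB⟩⟩ := hB
  obtain ⟨A', a1, a2, a3, ⟨eA⟩⟩ := hA
  obtain ⟨D', d1, d2, d3, ⟨eD⟩⟩ := hD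
  have a4 : IsAffine A'.left := isAffine_of_isAffineHom A'.hom
  have d4 : IsAffine D'.left := isAffine_of_isAffineHom D'.hom
  have hw : (eA.hom ≫ i ≫ eB.inv) ≫ (eB.hom ≫ q ≫ eD.inv) = 0 := by
    simp only [Category.assoc, Iso.inv_hom_id_assoc, reassoc_of% w, zero_comp, comp_zero]
  have hs' : (ShortComplex.mk (eA.hom ≫ i ≫ eB.inv) (eB.hom ≫ q ≫ eD.inv) hw).ShortExact := by
    refine ShortComplex.shortExact_of_iso (S₁ := ShortComplex.mk i q w)
      (S₂ := ShortComplex.mk (eA.hom ≫ i ≫ eB.inv) (eB.hom ≫ q ≫ eD.inv) hw)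
      (ShortComplex.isoMk eA.symm eB.symm eD.symm ?_ ?_) hs
    · simp
    · simp
  obtain ⟨hK, hfl, hsu⟩ := isKernel_of_shortExact _ _ hw hs'
  refine fin_iso eB ⟨B', b1, b2, ?_, ⟨Iso.refl _⟩⟩
  let π := K731.Full.hom (eB.hom ≫ q ≫ eD.inv)
  have hpb := K718.Sect.isPullback_left (K718.Sect.isPullback_act (K731.Full.hom (eA.hom ≫ i ≫ eB.inv)) π hK)
  have hdesc : MorphismProperty.DescendsAlong @IsFinite (@Surjective ⊓ @Flat ⊓ @QuasiCompact : MorphismProperty Scheme.{u}) :=
    Groth.Agent.S0084.result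
  have hfin : IsFinite π.left := by
    refine MorphismProperty.of_isPullback_of_descendsAlong (P := @IsFinite)
      (Q := (@Surjective ⊓ @Flat ⊓ @QuasiCompact : MorphismProperty Scheme.{u})) hpb ?_ ?_
    · exact ⟨⟨hsu, hfl⟩, inferInstance⟩
    · rw [Over.fst_left]
      exact MorphismProperty.pullback_fst _ _ inferInstance
  rw [← Over.w π]
  infer_instance

/-! ### Subgroups of the additive group -/

instance : IsAffine (Red.Ga (Spec (CommRingCat.of k))).left := by
  have : IsIso (gaTo : Red.Ga (Spec (CommRingCat.of k)) ⟶ SpecOver k (Polynomial k)).left :=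
    inferInstanceAs (IsIso ((Over.forget _).map gaTo))
  have : IsAffine (SpecOver k (Polynomial k)).left := inferInstanceAs (IsAffine (Spec _))
  exact IsAffine.of_isIso (gaTo : Red.Ga (Spec (CommRingCat.of k)) ⟶ SpecOver k (Polynomial k)).left

instance : LocallyOfFiniteType (Red.Ga (Spec (CommRingCat.of k))).hom := by
  have : IsIso (gaTo : Red.Ga (Spec (CommRingCat.of k)) ⟶ SpecOver k (Polynomial k)).left :=
    inferInstanceAs (IsIso ((Over.forget _).map gaTo))
  rw [← Over.w (gaTo : Red.Ga (Spec (CommRingCat.of k)) ⟶ SpecOver k (Polynomial k))]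
  have : LocallyOfFiniteType (SpecOver k (Polynomial k)).hom :=
    (Groth.Agent.Books.AffBridge2.locallyOfFiniteType_specOver_iff k (Polynomial k)).2 inferInstance
  infer_instance

theorem rep_Ga : Rep (CGrpSh.pts Scheme.fppfPrecoverage (Red.Ga (Spec (CommRingCat.of k)))) := rep_pts _

theorem isFinite_of_finite_fn (G : Over (Spec (CommRingCat.of k))) [IsAffine G.left] [Module.Finite k (Fn G)] :
    IsFinite G.hom := by
  have h1 : IsIso (toSpecFn G).left := inferInstanceAs (IsIso ((Over.forget _).map (toSpecFn G)))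
  have h2 : IsFinite (SpecOver k (Fn G)).hom := by
    change IsFinite (Spec.map _)
    rw [IsFinite.SpecMap_iff]
    exact (inferInstance : Module.Finite k (Fn G))
  rw [← Over.w (toSpecFn G)]
  infer_instance

theorem dich {F : BigSite.Ab Scheme.fppfPrecoverage (Spec (CommRingCat.of k))}
    (m : F ⟶ CGrpSh.pts Scheme.fppfPrecoverage (Red.Ga (Spec (CommRingCat.of k)))) [Mono m] (h : Rep F) :
    IsIso m ∨ Fin F := by
  obtain ⟨G, h1, h2, h3, h4, ⟨e⟩⟩ := h
  have hm' : Mono (e.hom ≫ m) := mono_comp _ _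
  let j := K731.Full.hom (e.hom ≫ m)
  have hj : IsClosedImmersion j.left := isClosedImmersion_of_mono (e.hom ≫ m)
  have hsurj := K844.FinSub.surjective_ga j
  let f : Polynomial k →ₐ[k] Fn G := Polynomial.aeval ((K844.FinSub.gaC (K := k)).v j)
  by_cases hf : Function.Injective f
  · left
    have h5 : IsIso j := by
      refine isIso_of_injective j fun x y hxy => ?_
      have h6 : Function.Surjective (fun P : Polynomial k => Polynomial.aeval
          ((K844.FinSub.gaC (K := k)).v (𝟙 (Red.Ga (Spec (CommRingCat.of k))))) P) :=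
        K844.FinSub.surjective_ga (𝟙 (Red.Ga (Spec (CommRingCat.of k))))
      obtain ⟨P, rfl⟩ := h6 x
      obtain ⟨Q, rfl⟩ := h6 y
      have h7 : ∀ P : Polynomial k, fnMap j (Polynomial.aeval
          ((K844.FinSub.gaC (K := k)).v (𝟙 (Red.Ga (Spec (CommRingCat.of k))))) P) = f P := by
        intro P
        rw [← Polynomial.aeval_algHom_apply, ← (K844.FinSub.gaC (K := k)).nat, Category.comp_id]
      have h8 : f P = f Q := by rw [← h7, ← h7]; exact hxy
      rw [hf h8]
    have h9 : IsIso (e.hom ≫ m) := by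
      have h8 : CGrpSh.ptsMap Scheme.fppfPrecoverage j = e.hom ≫ m := K731.Full.ptsMap_hom _
      rw [← h8]
      exact isIso_ptsMap j
    exact (isIso_comp_left_iff e.hom m).1 h9
  · right
    have hker : RingHom.ker f ≠ ⊥ := by
      rwa [Ne, ← RingHom.injective_iff_ker_eq_bot]
    obtain ⟨P, hP, hP0⟩ := Submodule.exists_mem_ne_zero_of_ne_bot hker
    have h5 : Module.Finite k (Fn G) := by
      let g : AdjoinRoot P →ₐ[k] Fn G := AdjoinRoot.liftAlgHom P (Algebra.ofId k (Fn G)) ((K844.FinSub.gaC (K := k)).v j) hP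
      have hg : Function.Surjective g := by
        intro x
        obtain ⟨Q, rfl⟩ := hsurj x
        exact ⟨AdjoinRoot.mk P Q, AdjoinRoot.liftAlgHom_mk _ _ _ _ _⟩
      have : Module.Finite k (AdjoinRoot P) := (AdjoinRoot.powerBasis hP0).finite
      exact Module.Finite.of_surjective g.toLinearMap hg
    exact fin_iso e ⟨G, h1, h2, isFinite_of_finite_fn G, ⟨Iso.refl _⟩⟩

theorem notfin : ¬ Fin (CGrpSh.pts Scheme.fppfPrecoverage (Red.Ga (Spec (CommRingCat.of k)))) := by
  intro h
  have h1 := isFinite_of_fin h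
  have h2 : Module.Finite k (Fn (Red.Ga (Spec (CommRingCat.of k)))) := K844.FinSub.finite_fn _
  have h3 : Module.Finite k (Polynomial k) := by
    have h4 : IsFinite (SpecOver k (Polynomial k)).hom := by
      have : IsIso (gaFrom : SpecOver k (Polynomial k) ⟶ Red.Ga (Spec (CommRingCat.of k))).left := by
        have h3' : IsIso (gaFrom : SpecOver k (Polynomial k) ⟶ Red.Ga (Spec (CommRingCat.of k))) :=
          ⟨gaTo, gaFrom_gaTo, gaTo_gaFrom⟩
        exact inferInstanceAs (IsIso ((Over.forget _).map gaFrom))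
      rw [← Over.w (gaFrom : SpecOver k (Polynomial k) ⟶ Red.Ga (Spec (CommRingCat.of k)))]
      infer_instance
    change IsFinite (Spec.map _) at h4
    rw [IsFinite.SpecMap_iff] at h4
    exact RingHom.finite_algebraMap.1 h4
  exact Polynomial.not_finite h3

end K59.DevFin
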