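import Groth.Agent.TateLoc.K59.NormLift
import Groth.Agent.TateLoc.K59.DevFin
import Groth.Agent.GmDual.K778.CharDict

/-!
# Characters of closed subgroups extend up to a uniform multiple
-/

set_option autoImplicit false

universe u

open CategoryTheory CategoryTheory.Limits MonoidalCategory CartesianMonoidalCategory MonObj AlgebraicGeometry
open CGrpSh Opposite TensorProduct

namespace K59.UnifChar

open DevRep DevFin K778.CharDict Groth.Agent.Books.AffBridge Groth.Agent.Books.AffBridge2 Groth.Agent.Sga3B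

variable {k : Type u} [Field k]

theorem exists_uniform_pts (G : Over (Spec (CommRingCat.of k))) [GrpObj G] [IsCommMonObj G] [IsAffine G.left]
    [LocallyOfFiniteType G.hom] :
    ∃ d : ℕ, 0 < d ∧ ∀ (H : Over (Spec (CommRingCat.of k))) [GrpObj H] [IsCommMonObj H] [IsAffine H.left] (i : H ⟶ G)
      [IsMonHom i] [IsClosedImmersion i.left]
      (ψ : CGrpSh.pts Scheme.fppfPrecoverage H ⟶ CGrpSh2.Gm Scheme.fppfPrecoverage (Spec (CommRingCat.of k))),
      ∃ χ : CGrpSh.pts Scheme.fppfPrecoverage G ⟶ CGrpSh2.Gm Scheme.fppfPrecoverage (Spec (CommRingCat.of k)),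
        CGrpSh.ptsMap Scheme.fppfPrecoverage i ≫ χ = d • ψ := by
  obtain ⟨A, iA, jA, eG, hG⟩ := exists_hopf k G
  have hcG : IsCommMonObj (SpecOver k A) := isCommMonObj_of_mono eG.inv
  have hcA : Coalgebra.IsCocomm k A := isCocomm_of_isCommMonObj
  have hfA : Algebra.FiniteType k A := finiteType_of_iso eG
  obtain ⟨d, hd, hU⟩ := NormLift.exists_uniform (k := k) A
  refine ⟨d, hd, fun H _ _ _ i _ _ ψ => ?_⟩
  obtain ⟨B, iB, jB, eH, hH⟩ := exists_hopf k H
  have hcH : IsCommMonObj (SpecOver k B) := isCommMonObj_of_mono eH.inv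
  have hcB : Coalgebra.IsCocomm k B := isCocomm_of_isCommMonObj
  obtain ⟨φ, hφ⟩ := exists_bialgHom_of_isMonHom k (eH.inv ≫ i ≫ eG.hom)
  have h1 : IsClosedImmersion (specMap k (φ : A →ₐ[k] B)).left := by
    rw [hφ]
    change IsClosedImmersion (eH.inv.left ≫ i.left ≫ eG.hom.left)
    have a1 : IsIso eH.inv.left := inferInstanceAs (IsIso ((Over.forget _).map eH.inv))
    have a2 : IsIso eG.hom.left := inferInstanceAs (IsIso ((Over.forget _).map eG.hom))
    infer_instance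
  have h2 : Function.Surjective φ := surjective_of_isClosedImmersion (φ : A →ₐ[k] B)
  obtain ⟨g, hg, hgh⟩ := hU B φ h2 _ (toGL eH ψ).toMul.2
  obtain ⟨χ, hχ⟩ := toGL_surjective (K := Scheme.fppfPrecoverage) eG (Additive.ofMul ⟨g, hg⟩)
  refine ⟨χ, ?_⟩
  apply toGL_injective eH
  rw [map_nsmul]
  apply Additive.toMul.injective
  apply GroupLike.val_injective
  refine (toGL_nat eG eH i φ hφ χ).trans ?_
  rw [hχ]
  exact hgh

theorem exists_uniform {F : BigSite.Ab Scheme.fppfPrecoverage (Spec (CommRingCat.of k))} (hF : Rep F) :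
    ∃ d : ℕ, 0 < d ∧ ∀ (F' : BigSite.Ab Scheme.fppfPrecoverage (Spec (CommRingCat.of k))) (i : F' ⟶ F) [Mono i],
      Rep F' → ∀ ψ : F' ⟶ CGrpSh2.Gm Scheme.fppfPrecoverage (Spec (CommRingCat.of k)),
      ∃ χ : F ⟶ CGrpSh2.Gm Scheme.fppfPrecoverage (Spec (CommRingCat.of k)), i ≫ χ = d • ψ := by
  obtain ⟨G, h1, h2, h3, h4, ⟨e⟩⟩ := hF
  obtain ⟨d, hd, H⟩ := exists_uniform_pts G
  refine ⟨d, hd, fun F' i _ hF' ψ => ?_⟩
  obtain ⟨G', h1', h2', h3', h4', ⟨e'⟩⟩ := hF'
  have hm : Mono (e'.hom ≫ i ≫ e.inv) := inferInstance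
  have hj : IsClosedImmersion (K731.Full.hom (e'.hom ≫ i ≫ e.inv)).left := isClosedImmersion_of_mono _
  obtain ⟨χ, hχ⟩ := H G' (K731.Full.hom (e'.hom ≫ i ≫ e.inv)) (e'.hom ≫ ψ)
  rw [K731.Full.ptsMap_hom] at hχ
  refine ⟨e.inv ≫ χ, ?_⟩
  rw [← cancel_epi e'.hom, Preadditive.comp_nsmul, ← hχ]
  simp only [Category.assoc]

end K59.UnifChar
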