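import Groth.Agent.TateLoc.K59.Pair
import Groth.Agent.TateLoc.K59.AlmFin
import Groth.Agent.TateLoc.K59.UnifChar
import Groth.Agent.TateLoc.K59.BrDiv
import Groth.Agent.TateLoc.K809.TorsTwo
import Groth.Agent.TateLoc.K798.CharFG
import Groth.Agent.GaDual.K771.PicExt
import Groth.Agent.GaDual.K771.FieldLine
import Groth.Agent.GaDual.K771.FppfGa
import Groth.Agent.GaDual.K770.Pts
import Groth.Agent.Sga3.H783.GaGm

/-!
# The pairing of `H²(k, G)` with the characters of `G`, local fields of positive characteristic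
-/

set_option autoImplicit false

universe u

open CategoryTheory CategoryTheory.Limits MonoidalCategory CartesianMonoidalCategory MonObj AlgebraicGeometry
open CGrpSh Opposite TensorProduct Abelian

namespace K59.HTwoDual

open DevAbs DevRep DevFin DevMain DevStrong K809.Les Pair

/-- The constant sheaf. -/
noncomputable abbrev XX (k : Type u) [Field k] : BigSite.Ab Scheme.fppfPrecoverage (Spec (CommRingCat.of k)) :=
  (constantSheaf (QuotSh.J Scheme.fppfPrecoverage (Spec (CommRingCat.of k))) AddCommGrpCat.{u + 1}).obj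
    (AddCommGrpCat.of (ULift ℤ))

noncomputable abbrev GG (k : Type u) [Field k] : BigSite.Ab Scheme.fppfPrecoverage (Spec (CommRingCat.of k)) :=
  CGrpSh2.Gm Scheme.fppfPrecoverage (Spec (CommRingCat.of k))

noncomputable abbrev ZZ (k : Type u) [Field k] : BigSite.Ab Scheme.fppfPrecoverage (Spec (CommRingCat.of k)) :=
  CGrpSh.pts Scheme.fppfPrecoverage (Red.Ga (Spec (CommRingCat.of k)))

variable (k : Type u) [Field k]

theorem hom_ga (x : ZZ k ⟶ GG k) : x = 0 := by
  have h1 : K731.Full.hom (K := Scheme.fppfPrecoverage) (G := Red.Ga (Spec (CommRingCat.of k)))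
      (H := Red.Gm (Spec (CommRingCat.of k))) x = 1 := K770.Pts.hom_eq_one _
  have h2 := K731.Full.ptsMap_hom (K := Scheme.fppfPrecoverage) (G := Red.Ga (Spec (CommRingCat.of k)))
      (H := Red.Gm (Spec (CommRingCat.of k))) x
  rw [← h2]
  apply Sheaf.hom_ext
  ext T y
  apply ULift.ext
  change Additive.ofMul (y.down.toMul ≫ K731.Full.hom (K := Scheme.fppfPrecoverage) (G := Red.Ga (Spec (CommRingCat.of k)))
      (H := Red.Gm (Spec (CommRingCat.of k))) x) = Additive.ofMul 1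
  rw [h1]
  exact congrArg _ (MonObj.comp_one _)

theorem ext_ga : Subsingleton (Ext (ZZ k) (GG k) 1) :=
  K771.PicExt.ext_one (X := Spec (CommRingCat.of k)) (fun L hL => K771.FieldLine.pic_line k L hL)

theorem h_ga : Subsingleton (Ext (XX k) (ZZ k) 2) := K771.FppfGa.subsingleton (Spec (CommRingCat.of k)) 2 (by norm_num)

theorem tors {F : BigSite.Ab Scheme.fppfPrecoverage (Spec (CommRingCat.of k))} (hF : Rep F) (x : Ext (XX k) F 2) :
    IsOfFinAddOrder x := by
  obtain ⟨G, h1, h2, h3, h4, ⟨e⟩⟩ := hF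
  have hq : QuasiCompact G.hom := inferInstance
  have := K809.TorsTwo.isOfFinAddOrder k G 2 (by norm_num) (mp _ e.inv 2 x)
  have h5 := (mp (XX k) e.hom 2).isOfFinAddOrder this
  rwa [← mp_comp, e.inv_hom_id, mp_id] at h5

theorem tors_gm (x : Ext (XX k) (GG k) 2) : IsOfFinAddOrder x := by
  have h0 : IsAffineHom (Red.Gm (Spec (CommRingCat.of k))).hom := Groth.Agent.Sga3.H783.GaGm.isAffineHom_gm _
  have h1 : QuasiCompact (Red.Gm (Spec (CommRingCat.of k))).hom := inferInstance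
  have h2 : LocallyOfFiniteType (Red.Gm (Spec (CommRingCat.of k))).hom :=
    Groth.Agent.Sga3.H783.GaGm.locallyOfFiniteType_gm _
  exact K809.TorsTwo.isOfFinAddOrder k (Red.Gm (Spec (CommRingCat.of k))) 2 (by norm_num) x

theorem fg {F : BigSite.Ab Scheme.fppfPrecoverage (Spec (CommRingCat.of k))} (hF : Rep F) : AddGroup.FG (F ⟶ GG k) := by
  obtain ⟨G, h1, h2, h3, h4, ⟨e⟩⟩ := hF
  have := Groth.Agent.TateLoc.K798.CharFG.fg_characters (k := k) G Scheme.fppfPrecoverage
  let f : (CGrpSh.pts Scheme.fppfPrecoverage G ⟶ GG k) →+ (F ⟶ GG k) := Preadditive.leftComp _ e.inv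
  refine AddGroup.fg_of_surjective (f := f) fun χ => ⟨e.hom ≫ χ, ?_⟩
  change e.inv ≫ e.hom ≫ χ = χ
  rw [Iso.inv_hom_id_assoc]

/-- The pairing for almost tori. -/
theorem almost (hdiv : ∀ (N : ℕ), 0 < N → ∀ x : Ext (XX k) (GG k) 2, ∃ y, N • y = x)
    (hfin : ∀ F : BigSite.Ab Scheme.fppfPrecoverage (Spec (CommRingCat.of k)), DevFin.Fin F →
      Inj (XX k) (GG k) F ∧ Sur (XX k) (GG k) F)
    (H : BigSite.Ab Scheme.fppfPrecoverage (Spec (CommRingCat.of k))) (hH : Rep H)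
    (hat : AT (Tor (k := k)) (DevFin.Fin (k := k)) H) : Inj (XX k) (GG k) H ∧ Sur (XX k) (GG k) H := by
  obtain ⟨A, q, hq, hA, hT⟩ := hat
  have hs := ses_kernel q
  obtain ⟨n, hn0, hn⟩ : ∃ n : ℕ, 0 < n ∧ n • 𝟙 A = 0 := by
    obtain ⟨I, i1, i2, i3, ⟨e⟩⟩ := hA
    obtain ⟨n, hn, h⟩ := K809.TorsTwo.exists_pow_eq_one k I
    refine ⟨n, hn, ?_⟩
    have h1 := K809.Comp.nsmul_id_pts Scheme.fppfPrecoverage I n h
    have h2 : e.hom ≫ (n • 𝟙 A) = (n • 𝟙 _) ≫ e.hom := by
      rw [Preadditive.comp_nsmul, Preadditive.nsmul_comp, Category.comp_id, Category.id_comp]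
    rw [← cancel_epi e.hom, h2, h1, zero_comp, comp_zero]
  have hTN : ∀ N : ℕ, 0 < N → Epi (N • 𝟙 (kernel q)) := fun N hN => (TorPow.tor hT N hN).1
  have hK : ∀ N : ℕ, 0 < N → DevFin.Fin (kernel (N • 𝟙 H)) := fun N hN =>
    AlmFin.fin_kernel (kernel.ι q) q (kernel.condition q) hs hT hH hA N hN
  constructor
  · obtain ⟨d, hd, hU⟩ := UnifChar.exists_uniform hH
    exact inj_almost q (kernel.condition q) hs n hn hTN hn0 (fun N hN => (hfin _ (hK N hN)).1) (tors k hH) d hd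
      (fun N hN ψ => hU _ (kernel.ι _) (fin_rep (hK N hN)) ψ)
  · exact sur_almost q (kernel.condition q) hs n hn hTN hn0 (fun N hN => (hfin _ (hK N hN)).2) (fg k hH) (tors_gm k) hdiv

/-- The pairing for all affine commutative groups of finite type. -/
theorem main (p : ℕ) [Fact p.Prime] [CharP k p] (hdiv : ∀ (N : ℕ), 0 < N → ∀ x : Ext (XX k) (GG k) 2, ∃ y, N • y = x)
    (hfin : ∀ F : BigSite.Ab Scheme.fppfPrecoverage (Spec (CommRingCat.of k)), DevFin.Fin F →
      Inj (XX k) (GG k) F ∧ Sur (XX k) (GG k) F)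
    (F : BigSite.Ab Scheme.fppfPrecoverage (Spec (CommRingCat.of k))) (hF : Rep F) :
    Inj (XX k) (GG k) F ∧ Sur (XX k) (GG k) F := by
  obtain ⟨n, H, j, hj, hat, hU⟩ := strong_sheaf p hF
  have hs := ses_cokernel j
  have hH : Rep H := rep_iso (isoKernel hs).symm (exists_tower' n (cokernel.π j) hF hU)
  obtain ⟨a1, a2⟩ := almost k hdiv hfin H hH hat
  obtain ⟨b1, b2, b3⟩ := towZ (X := XX k) (M := GG k) (ZZ k) (h_ga k) (hom_ga k) (ext_ga k) n _ hU
  exact ⟨inj_of_ses hs b1 b3 a1, sur_of_ses hs b2 b3 a2⟩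

end K59.HTwoDual
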