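import Groth.Agent.S3484
import Groth.Agent.Etbc.H214.ResCd
import Mathlib.NumberTheory.LocalField.Basic
import Mathlib.RingTheory.Henselian

/-!
# Non-archimedean local fields have cohomological dimension at most two
-/

set_option autoImplicit false

universe u

open CategoryTheory CategoryTheory.Limits AlgebraicGeometry ValuativeRel

namespace K59.CdLoc

open Groth.Agent.Etbc

variable (k : Type u) [Field k] [ValuativeRel k] [TopologicalSpace k] [IsNonarchimedeanLocalField k]

instance henselian : HenselianLocalRing 𝒪[k] := by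
  let _ := IsTopologicalAddGroup.rightUniformSpace k
  have _ := isUniformAddGroup_of_addCommGroup (G := k)
  have h1 : IsAdicComplete 𝓂[k] 𝒪[k] := inferInstance
  have h2 : HenselianRing 𝒪[k] 𝓂[k] := inferInstance
  exact { is_henselian := fun f hf a₀ h₁ h₂ => HenselianRing.is_henselian f hf a₀ h₁ (h₂.map (Ideal.Quotient.mk _)) }

/-- Local fields have `cd_ℓ ≤ 2` for all primes `ℓ`. -/
theorem cd_le_two (ℓ : ℕ) (hℓ : ℓ.Prime) : Dix.CohDimLEAt (Spec (CommRingCat.of k)) ℓ 2 := by
  have hF : Fact ℓ.Prime := ⟨hℓ⟩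
  have hres : Dix.CohDimLEAt (Spec (CommRingCat.of 𝓀[k])) ℓ 1 :=
    H236.IntCore.cohDimLEAt_of_cohDimLE hℓ.ne_zero 1 (H236.QFMain.cohDimLE_one_of_finite 𝓀[k])
  by_cases h0 : (ℓ : k) = 0
  · have : CharP k ℓ := (CharP.charP_iff_prime_eq_zero hℓ).2 h0
    intro F hF' q hq
    exact H214.ResCd.cd_charP_self k ℓ F hF' q (by omega)
  · have h3 := Groth.Agent.S3484.result 𝒪[k] k ℓ hℓ (Or.inr ⟨h0, inferInstance, 1, hres⟩)
    exact (h3.1 1).1 hres

end K59.CdLoc
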