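import Groth.Agent.TateLoc.K59.DevFin

/-!
# Extensions of a finite group by the additive group in characteristic `p`

`key`: for an extension `0 → 𝔾_a → M → E → 0` of commutative affine algebraic groups over a field of characteristic `p`, with
`E` finite, there is a homomorphism `M → 𝔾_a` which is nonzero on `𝔾_a`.

Proof: the torsor `M → E` is trivial, i.e. there is a function `b` on `M` with `b (m + t) = b m + t`.  The function
`b (m + m') - b m - b m'` comes from the finite-dimensional algebra of `E × E`, so its `p^i`-th powers are linearly dependent, and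
the corresponding additive polynomial of `b` is a homomorphism.
-/

set_option autoImplicit false

universe u

open CategoryTheory CategoryTheory.Limits MonoidalCategory CartesianMonoidalCategory MonObj AlgebraicGeometry
open CGrpSh Opposite

namespace K59.DevKey

open DevRep DevFin Groth.Agent.Books.AffBridge Groth.Agent.Sga3B.GaPts Groth.Agent.Sga3B.AffPts
  Groth.Agent.Sga3B.RootHomDict

/-! ### Additive polynomials -/

section Poly

variable {k : Type*} [Field k] (p : ℕ) [hp : Fact p.Prime] [CharP k p]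

/-- The additive polynomial with coefficients `a`. -/
noncomputable def L (a : ℕ →₀ k) {R : Type*} [CommRing R] [Algebra k R] (x : R) : R :=
  Finsupp.linearCombination k (fun i : ℕ => x ^ p ^ i) a

omit hp [CharP k p] in
theorem L_eq (a : ℕ →₀ k) {R : Type*} [CommRing R] [Algebra k R] (x : R) :
    L p a x = ∑ i ∈ a.support, a i • x ^ p ^ i := by
  rw [L, Finsupp.linearCombination_apply, Finsupp.sum]

theorem L_add (a : ℕ →₀ k) {R : Type*} [CommRing R] [Algebra k R] (x y : R) : L p a (x + y) = L p a x + L p a y := by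
  rcases subsingleton_or_nontrivial R with h | h
  · exact Subsingleton.elim _ _
  · have : CharP R p := charP_of_injective_algebraMap (algebraMap k R).injective p
    rw [L_eq, L_eq, L_eq, ← Finset.sum_add_distrib]
    refine Finset.sum_congr rfl fun i _ => ?_
    rw [add_pow_char_pow, smul_add]

omit hp [CharP k p] in
theorem map_L (a : ℕ →₀ k) {R R' : Type*} [CommRing R] [Algebra k R] [CommRing R'] [Algebra k R'] (f : R →ₐ[k] R') (x : R) :
    f (L p a x) = L p a (f x) := by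
  rw [L_eq, L_eq, map_sum]
  refine Finset.sum_congr rfl fun i _ => ?_
  rw [map_smul, map_pow]

omit [CharP k p] in
theorem eq_zero_of_L (a : ℕ →₀ k) (h : L p a (Polynomial.X : Polynomial k) = 0) : a = 0 := by
  ext j
  have h1 := congrArg (fun P : Polynomial k => P.coeff (p ^ j)) h
  simp only [L_eq, Polynomial.finsetSum_coeff, Polynomial.coeff_smul, Polynomial.coeff_X_pow, Polynomial.coeff_zero,
    (Nat.pow_right_injective hp.out.two_le).eq_iff, smul_eq_mul, mul_ite, mul_zero] at h1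
  rw [Finset.sum_ite_eq] at h1
  by_cases hj : j ∈ a.support
  · rw [if_pos hj, _root_.mul_one] at h1
    exact h1
  · exact Finsupp.notMem_support_iff.1 hj

omit [CharP k p] in
theorem exists_dep {R : Type*} [CommRing R] [Algebra k R] [Module.Finite k R] (x : R) : ∃ a : ℕ →₀ k, a ≠ 0 ∧ L p a x = 0 := by
  have h1 : ¬ LinearIndependent k (fun i : ℕ => x ^ p ^ i) := fun h2 => by
    have := h2.finite
    exact not_finite ℕ
  rw [linearIndependent_iff] at h1
  push Not at h1
  obtain ⟨a, h1, h2⟩ := h1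
  exact ⟨a, h2, h1⟩

end Poly

theorem isMonHom_of_mul {C : Type*} [Category C] [CartesianMonoidalCategory C] {G H : C} [GrpObj G] [GrpObj H]
    (z : G ⟶ H) (h : ∀ (T : C) (x y : T ⟶ G), (x * y) ≫ z = (x ≫ z) * (y ≫ z)) : IsMonHom z where
  one_hom := by
    have h1 := h (𝟙_ C) 1 1
    rw [_root_.mul_one] at h1
    have h2 : (1 : 𝟙_ C ⟶ G) ≫ z = 1 := (left_eq_mul.1 h1)
    rw [Hom.one_def, Hom.one_def, toUnit_unique (toUnit (𝟙_ C)) (𝟙 _), Category.id_comp, Category.id_comp] at h2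
    exact h2
  mul_hom := by
    have h1 := h (G ⊗ G) (fst G G) (snd G G)
    rw [Hom.mul_def, Hom.mul_def, lift_fst_snd, Category.id_comp] at h1
    rw [h1]
    congr 1
    ext1 <;> simp

variable {k : Type u} [Field k]

section Sch

variable {M E : Over (Spec (CommRingCat.of k))} [GrpObj M] [IsCommMonObj M] [GrpObj E]
  (i : Red.Ga (Spec (CommRingCat.of k)) ⟶ M) [IsMonHom i] (π : M ⟶ E) [IsMonHom π]
  [Flat π.left] [Surjective π.left] [QuasiCompact π.left]

omit [IsCommMonObj M] in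
theorem exists_b [IsAffine E.left] (hK : AlgGrp.IsKernel i π) :
    ∃ b : M ⟶ Red.Ga (Spec (CommRingCat.of k)), ∀ {T : Over (Spec (CommRingCat.of k))} (x : T ⟶ M)
      (t : T ⟶ Red.Ga (Spec (CommRingCat.of k))), (x * (t ≫ i)) ≫ b = (x ≫ b) * t := by
  have haff : IsAffineHom (Red.Ga (Spec (CommRingCat.of k))).hom := inferInstance
  obtain ⟨b₀, hb⟩ := K718.Sect.exists_primitive i π hK (Red.gaFn (snd M (Red.Ga (Spec (CommRingCat.of k))))) (by
    rw [← gaFn_comp, ← gaFn_comp, ← gaFn_comp, K718.Sect.mulR, lift_snd, gaFn_mul, K718.Sect.actR, lift_snd])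
  refine ⟨gaPt M b₀, fun {T} x t => ?_⟩
  have h1 : K718.Sect.act i ≫ gaPt M b₀ = (fst M _ ≫ gaPt M b₀) * snd M _ := by
    apply gaFn_injective
    rw [gaFn_mul, gaFn_comp, gaFn_comp, gaFn_gaPt, hb]
  rw [← K718.Sect.lift_act, Category.assoc, h1, comp_mul, lift_fst_assoc, lift_snd]

omit [IsMonHom π] [Flat π.left] [Surjective π.left] [QuasiCompact π.left] in
theorem aux {G : Type*} [CommGroup G] (b12 b1 b2 z1 z2 : G) :
    b12 * (z1 * z2) * (b1 * z1)⁻¹ * (b2 * z2)⁻¹ = b12 * b1⁻¹ * b2⁻¹ := by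
  rw [mul_inv, mul_inv]
  calc b12 * (z1 * z2) * (b1⁻¹ * z1⁻¹) * (b2⁻¹ * z2⁻¹) = b12 * b1⁻¹ * b2⁻¹ * ((z1 * z1⁻¹) * (z2 * z2⁻¹)) := by
        simp only [_root_.mul_assoc, _root_.mul_left_comm, _root_.mul_comm]
    _ = b12 * b1⁻¹ * b2⁻¹ := by simp

theorem key_sch (p : ℕ) [Fact p.Prime] [CharP k p] [IsFinite E.hom] (hK : AlgGrp.IsKernel i π) :
    ∃ z : M ⟶ Red.Ga (Spec (CommRingCat.of k)), IsMonHom z ∧ i ≫ z ≠ 1 := by
  have hEa : IsAffine E.left := isAffine_of_isAffineHom E.hom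
  obtain ⟨b, hb⟩ := exists_b i π hK
  let C : M ⊗ M ⟶ Red.Ga (Spec (CommRingCat.of k)) := (μ[M] ≫ b) * (fst M M ≫ b)⁻¹ * (snd M M ≫ b)⁻¹
  have hC : ∀ {T : Over (Spec (CommRingCat.of k))} (x y : T ⟶ M),
      lift x y ≫ C = ((x * y) ≫ b) * (x ≫ b)⁻¹ * (y ≫ b)⁻¹ := by
    intro T x y
    rw [comp_mul, comp_mul, GrpObj.comp_inv, GrpObj.comp_inv, lift_fst_assoc, lift_snd_assoc, ← Category.assoc,
      ← Hom.mul_def]
  have hq2 : ∀ (P : MorphismProperty Scheme.{u}) [P.IsStableUnderBaseChange]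
      [P.IsMultiplicative], P π.left → P (π ⊗ₘ π).left := by
    intro P _ _ hP
    rw [Over.tensorHom_left]
    exact MorphismProperty.pullbackMap hP hP (Over.w π).symm (Over.w π).symm
  have h1 : QuasiCompact (π ⊗ₘ π).left := hq2 @QuasiCompact inferInstance
  have h2 : Flat (π ⊗ₘ π).left := hq2 @Flat inferInstance
  have h3 : Surjective (π ⊗ₘ π).left := hq2 @Surjective inferInstance
  obtain ⟨c, hc⟩ := K718.Sect.exists_desc (π ⊗ₘ π) C (by
    intro T x y hxy
    have e1 : (x ≫ fst M M) ≫ π = (y ≫ fst M M) ≫ π := by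
      have := congrArg (fun f => f ≫ fst E E) hxy
      simpa only [Category.assoc, tensorHom_fst] using this
    have e2 : (x ≫ snd M M) ≫ π = (y ≫ snd M M) ≫ π := by
      have := congrArg (fun f => f ≫ snd E E) hxy
      simpa only [Category.assoc, tensorHom_snd] using this
    obtain ⟨z1, hz1⟩ := K718.Sect.exists_diff i π hK _ _ e1
    obtain ⟨z2, hz2⟩ := K718.Sect.exists_diff i π hK _ _ e2
    have hx : x = lift (x ≫ fst M M) (x ≫ snd M M) := by rw [← comp_lift, lift_fst_snd, Category.comp_id]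
    have hy : y = lift (y ≫ fst M M) (y ≫ snd M M) := by rw [← comp_lift, lift_fst_snd, Category.comp_id]
    rw [hx, hy, hC, hC, ← hz1, ← hz2]
    have e3 : (x ≫ fst M M) * (z1 ≫ i) * ((x ≫ snd M M) * (z2 ≫ i)) =
        ((x ≫ fst M M) * (x ≫ snd M M)) * ((z1 * z2) ≫ i) := by
      rw [mul_comp]
      exact _root_.mul_mul_mul_comm _ _ _ _
    rw [e3, hb, hb, hb]
    exact (aux (G := T ⟶ Red.Ga (Spec (CommRingCat.of k))) _ _ _ _ _).symm)
  have hfin : Module.Finite k (Fn (E ⊗ E)) := by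
    have : IsFinite (E ⊗ E).hom := by
      rw [← Over.w (fst E E)]
      have : IsFinite (fst E E).left := by
        rw [Over.fst_left]
        exact MorphismProperty.pullback_fst _ _ inferInstance
      infer_instance
    exact K844.FinSub.finite_fn (E ⊗ E)
  let f : Fn (E ⊗ E) := Red.gaFn c
  obtain ⟨a, ha, haf⟩ := exists_dep (k := k) p f
  let z : M ⟶ Red.Ga (Spec (CommRingCat.of k)) := gaPt M (L (k := k) (R := Fn M) p a (Red.gaFn b))
  have hz : ∀ {T : Over (Spec (CommRingCat.of k))} (x : T ⟶ M),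
      Red.gaFn (x ≫ z) = L (k := k) (R := Fn T) p a (Red.gaFn (x ≫ b)) := by
    intro T x
    rw [gaFn_comp, gaFn_gaPt, gaFn_comp]
    exact map_L p a (fnMap x) (Red.gaFn b)
  have hCz : ∀ {T : Over (Spec (CommRingCat.of k))} (x y : T ⟶ M),
      L (k := k) (R := Fn T) p a (Red.gaFn (lift x y ≫ C)) = 0 := by
    intro T x y
    rw [← hc, gaFn_comp, gaFn_comp]
    have h5 : (lift x y).left.appTop ((π ⊗ₘ π).left.appTop (Red.gaFn c)) = (fnMap (lift x y)) (fnMap (π ⊗ₘ π) f) := rfl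
    rw [h5]
    rw [← map_L p a (fnMap (lift x y)), ← map_L p a (fnMap (π ⊗ₘ π)), haf, map_zero, map_zero]
  have hzm : ∀ (T : Over (Spec (CommRingCat.of k))) (x y : T ⟶ M), (x * y) ≫ z = (x ≫ z) * (y ≫ z) := by
    intro T x y
    apply gaFn_injective
    rw [gaFn_mul, hz, hz, hz]
    have h6 : (x * y) ≫ b = (lift x y ≫ C) * ((x ≫ b) * (y ≫ b)) := by
      rw [hC]
      have : ∀ {G : Type u} [CommGroup G] (u v w : G), u = u * v⁻¹ * w⁻¹ * (v * w) := by
        intro G _ u v w
        have : u * v⁻¹ * w⁻¹ * (v * w) = u * ((v⁻¹ * v) * (w⁻¹ * w)) := by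
          simp only [_root_.mul_assoc, _root_.mul_left_comm, _root_.mul_comm]
        rw [this]; simp
      exact this _ _ _
    rw [h6, gaFn_mul, gaFn_mul]
    have h7 := L_add (k := k) (R := Fn T) p a (Red.gaFn (lift x y ≫ C)) (Red.gaFn (x ≫ b) + Red.gaFn (y ≫ b))
    refine h7.trans ?_
    rw [hCz]
    have h8 := L_add (k := k) (R := Fn T) p a (Red.gaFn (x ≫ b)) (Red.gaFn (y ≫ b))
    exact (_root_.zero_add _).trans h8
  have hzh : IsMonHom z := isMonHom_of_mul z hzm
  refine ⟨z, hzh, fun h9 => ?_⟩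
  let T : Over (Spec (CommRingCat.of k)) := SpecOver k (Polynomial k)
  let t : T ⟶ Red.Ga (Spec (CommRingCat.of k)) := gaPt T ((fnSpec (R := k) (Polynomial k)).symm Polynomial.X)
  have h10 : Red.gaFn ((t ≫ i) ≫ z) = (0 : Fn T) := by
    rw [Category.assoc, h9, comp_one]
    exact gaFn_one
  have h11 : (t ≫ i) ≫ b = ((1 : T ⟶ M) ≫ b) * t := by
    rw [← hb, _root_.one_mul]
  rw [hz, h11, gaFn_mul] at h10
  have h12 : L (k := k) (R := Fn T) p a (Red.gaFn ((1 : T ⟶ M) ≫ b)) = 0 := by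
    rw [← hz]
    have h17 : (1 : T ⟶ M) ≫ z = 1 := one_comp z
    rw [h17]
    exact gaFn_one
  have h13 := L_add (k := k) (R := Fn T) p a (Red.gaFn ((1 : T ⟶ M) ≫ b)) (Red.gaFn t)
  rw [h12, _root_.zero_add] at h13
  have h14 : L (k := k) (R := Fn T) p a ((fnSpec (R := k) (Polynomial k)).symm Polynomial.X) = 0 := by
    have h15 : Red.gaFn t = (fnSpec (R := k) (Polynomial k)).symm Polynomial.X := gaFn_gaPt _ _
    rw [← h15, ← h13]
    exact h10
  apply ha
  apply eq_zero_of_L p a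
  have h16 := map_L p a (fnSpec (R := k) (Polynomial k)).toAlgHom ((fnSpec (R := k) (Polynomial k)).symm Polynomial.X)
  rw [h14, map_zero] at h16
  rw [h16]
  congr 1
  exact ((fnSpec (R := k) (Polynomial k)).apply_symm_apply _).symm

end Sch

/-- The key fact in terms of sheaves. -/
theorem key (p : ℕ) [Fact p.Prime] [CharP k p] {M E : BigSite.Ab Scheme.fppfPrecoverage (Spec (CommRingCat.of k))}
    (i : CGrpSh.pts Scheme.fppfPrecoverage (Red.Ga (Spec (CommRingCat.of k))) ⟶ M) (q : M ⟶ E) (w : i ≫ q = 0)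
    (hs : (ShortComplex.mk i q w).ShortExact) (hM : Rep M) (hE : Fin E) :
    ∃ z : M ⟶ CGrpSh.pts Scheme.fppfPrecoverage (Red.Ga (Spec (CommRingCat.of k))), i ≫ z ≠ 0 := by
  obtain ⟨B', b1, b2, b3, b4, ⟨eB⟩⟩ := hM
  obtain ⟨D', d1, d2, d3, ⟨eD⟩⟩ := hE
  have d4 : IsAffine D'.left := isAffine_of_isAffineHom D'.hom
  have hw : (i ≫ eB.inv) ≫ (eB.hom ≫ q ≫ eD.inv) = 0 := by
    simp only [Category.assoc, Iso.inv_hom_id_assoc, reassoc_of% w, zero_comp, comp_zero]
  have hs' : (ShortComplex.mk (i ≫ eB.inv) (eB.hom ≫ q ≫ eD.inv) hw).ShortExact := by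
    refine ShortComplex.shortExact_of_iso (S₁ := ShortComplex.mk i q w)
      (S₂ := ShortComplex.mk (i ≫ eB.inv) (eB.hom ≫ q ≫ eD.inv) hw)
      (ShortComplex.isoMk (Iso.refl _) eB.symm eD.symm ?_ ?_) hs
    · simp
    · simp
  obtain ⟨hK, hfl, hsu⟩ := isKernel_of_shortExact _ _ hw hs'
  obtain ⟨z, hz, hne⟩ := key_sch _ _ p hK
  refine ⟨eB.inv ≫ CGrpSh.ptsMap Scheme.fppfPrecoverage z, fun h => hne ?_⟩
  rw [← Category.assoc] at h
  have h1 := congrArg (fun f => K731.Full.hom f) h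
  simp only [K731.Full.hom_comp, K731.Full.hom_ptsMap] at h1
  exact h1

end K59.DevKey
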