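import Groth.Agent.S5379
import Groth.Agent.S3278
import Groth.Agent.CGrpSh.K731.RepPts
import Groth.Agent.S12381
import Groth.Agent.Sga7.H758.FfEpi
import Groth.Agent.Sga3.H830.CommAux
import Mathlib.AlgebraicGeometry.Sites.Fpqc
import Mathlib.CategoryTheory.Abelian.Basic

/-!
# Kernels and cokernels of homomorphisms of affine commutative algebraic groups, as fppf sheaves

`Rep F`: the abelian fppf sheaf `F` on `Spec k` is the sheaf of points of an affine commutative group scheme of finite type.
* `shortExact_of_isKernel`: a kernel of a faithfully flat homomorphism gives a short exact sequence of fppf sheaves;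
* `rep_kernel`, `rep_cokernel`: `Rep` is stable under kernels and cokernels of monomorphisms;
* `isKernel_of_shortExact`: a short exact sequence of sheaves of affine groups comes from a faithfully flat quotient map.
-/

set_option autoImplicit false

universe u

open CategoryTheory CategoryTheory.Limits MonoidalCategory CartesianMonoidalCategory MonObj AlgebraicGeometry
open CGrpSh Opposite

namespace K59.DevRep

variable {k : Type u} [Field k]

theorem shortExact_of_isKernel {S : Scheme.{u}}
    (F G H : Over S) [GrpObj F] [IsCommMonObj F] [GrpObj G] [IsCommMonObj G] [GrpObj H] [IsCommMonObj H]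
    (f : F ⟶ G) (p : G ⟶ H) [IsMonHom f] [IsMonHom p] [Flat p.left] [Surjective p.left] [LocallyOfFinitePresentation p.left]
    (hker : AlgGrp.IsKernel f p) (w : f ≫ p = 1) :
    (CGrpSh.seq Scheme.fppfPrecoverage f p w).ShortExact := by
  refine ShortComplex.ShortExact.mk' ?_ ?_ ?_
  · apply K731.Basic.exact_of_sections
    intro T x hx
    have hx' : x.down.toMul ≫ p = 1 := congrArg (fun z => z.down.toMul) hx
    have h2 : x.down.toMul ≫ p = toUnit T ≫ η[H] := by
      rw [hx', Hom.one_def]
    refine ⟨ULift.up (Additive.ofMul (hker.lift _ _ h2)), ?_⟩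
    apply ULift.ext
    change Additive.ofMul (hker.lift _ _ h2 ≫ f) = _
    rw [hker.lift_fst]
    rfl
  · apply K731.Basic.mono_of_injective
    intro T x y hxy
    have h1 : x.down.toMul ≫ f = y.down.toMul ≫ f := congrArg (fun z => z.down.toMul) hxy
    have h2 : x.down.toMul = y.down.toMul := hker.hom_ext h1 (toUnit_unique _ _)
    exact ULift.ext _ _ h2
  · apply K731.Basic.epi_of_exists_cover
    intro T b
    let t : T ⟶ H := b.down.toMul
    refine ⟨Presieve.singleton (pullback.fst t.left p.left), Scheme.Hom.singleton_mem_fppfPrecoverage _, ?_⟩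
    rintro Y _ ⟨⟩
    let s : Over.mk (pullback.fst t.left p.left ≫ T.hom) ⟶ G := Over.homMk (pullback.snd t.left p.left) (by
      have h1 := Over.w p
      have h2 := Over.w t
      rw [← h1, ← pullback.condition_assoc, h2]
      rfl)
    refine ⟨ULift.up (Additive.ofMul s), ?_⟩
    apply ULift.ext
    change Additive.ofMul (s ≫ p) = Additive.ofMul ((Over.homMk (pullback.fst t.left p.left) :
      Over.mk (pullback.fst t.left p.left ≫ T.hom) ⟶ T) ≫ t)
    congr 1
    ext1
    exact pullback.condition.symm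

/-- Sheaves of points of affine commutative group schemes of finite type over `k`. -/
def Rep (F : BigSite.Ab Scheme.fppfPrecoverage (Spec (CommRingCat.of k))) : Prop :=
  ∃ (G : Over (Spec (CommRingCat.of k))) (_ : GrpObj G) (_ : IsCommMonObj G),
    IsAffine G.left ∧ LocallyOfFiniteType G.hom ∧ Nonempty (CGrpSh.pts Scheme.fppfPrecoverage G ≅ F)

theorem rep_iso {F F' : BigSite.Ab Scheme.fppfPrecoverage (Spec (CommRingCat.of k))} (e : F ≅ F') (h : Rep F) : Rep F' := by
  obtain ⟨G, h1, h2, h3, h4, ⟨e'⟩⟩ := h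
  exact ⟨G, h1, h2, h3, h4, ⟨e'.trans e⟩⟩

theorem rep_pts (G : Over (Spec (CommRingCat.of k))) [GrpObj G] [IsCommMonObj G] [IsAffine G.left]
    [LocallyOfFiniteType G.hom] : Rep (CGrpSh.pts Scheme.fppfPrecoverage G) :=
  ⟨G, inferInstance, inferInstance, inferInstance, inferInstance, ⟨Iso.refl _⟩⟩

section

variable {G H : Over (Spec (CommRingCat.of k))} [GrpObj G] [IsCommMonObj G] [GrpObj H] [IsCommMonObj H]
  [IsAffine G.left] [LocallyOfFiniteType G.hom] [IsAffine H.left] [LocallyOfFiniteType H.hom]

omit [IsAffine G.left] [LocallyOfFiniteType G.hom] [IsAffine H.left] [LocallyOfFiniteType H.hom] in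
theorem mono_of_mono (f : CGrpSh.pts Scheme.fppfPrecoverage G ⟶ CGrpSh.pts Scheme.fppfPrecoverage H) [Mono f] :
    Mono (K731.Full.hom f) := by
  constructor
  intro T x y hxy
  have h := K731.Basic.injective_of_mono f (op T)
    (a₁ := ULift.up (Additive.ofMul x)) (a₂ := ULift.up (Additive.ofMul y)) (by
      rw [K731.Full.app_eq, K731.Full.app_eq]
      exact congrArg (fun z => ULift.up (Additive.ofMul z)) hxy)
  exact congrArg (fun z => z.down.toMul) h

omit [LocallyOfFiniteType G.hom] [LocallyOfFiniteType H.hom] in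
theorem isClosedImmersion_of_mono (f : CGrpSh.pts Scheme.fppfPrecoverage G ⟶ CGrpSh.pts Scheme.fppfPrecoverage H) [Mono f] :
    IsClosedImmersion (K731.Full.hom f).left := by
  have h1 := mono_of_mono f
  have h2 : QuasiCompact (K731.Full.hom f).left := inferInstance
  exact Groth.Agent.S5379.result k G H (K731.Full.hom f)

omit [LocallyOfFiniteType H.hom] in
/-- Kernels are representable. -/
theorem exists_kernel (φ : CGrpSh.pts Scheme.fppfPrecoverage G ⟶ CGrpSh.pts Scheme.fppfPrecoverage H) :
    Rep (kernel φ) := by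
  let f := K731.Full.hom φ
  let P := pullback f η[H]
  let i : P ⟶ G := pullback.fst f η[H]
  have hi : IsClosedImmersion (η[H] : 𝟙_ (Over (Spec (CommRingCat.of k))) ⟶ H).left := by
    have h1 : IsClosedImmersion ((η[H] : 𝟙_ (Over (Spec (CommRingCat.of k))) ⟶ H).left ≫ H.hom) := by
      rw [Over.w]
      change IsClosedImmersion (𝟙 _)
      infer_instance
    exact IsClosedImmersion.of_comp _ H.hom
  have hpb := (IsPullback.of_hasPullback f η[H]).map (Over.forget _)
  have h2 : IsClosedImmersion i.left := MorphismProperty.of_isPullback hpb.flip hi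
  have h3 : IsAffine P.left := isAffine_of_isAffineHom i.left
  have h4 : LocallyOfFiniteType P.hom := by
    rw [← Over.w i]; infer_instance
  have hu : ∀ {T : Over (Spec (CommRingCat.of k))} (x : T ⟶ P), (x ≫ i) ≫ f = 1 := by
    intro T x
    rw [Category.assoc, pullback.condition, ← Category.assoc, Hom.one_def, toUnit_unique (x ≫ pullback.snd f η[H]) (toUnit T)]
  have hmono : Mono i := by
    have : Mono (η[H] : 𝟙_ (Over (Spec (CommRingCat.of k))) ⟶ H) := by
      constructor
      intro T a b _
      exact toUnit_unique _ _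
    infer_instance
  have hex : (ShortComplex.mk (kernel.ι φ) φ (kernel.condition φ)).Exact :=
    ShortComplex.exact_of_f_is_kernel _ (kernelIsKernel φ)
  have key : ∀ (T : Over (Spec (CommRingCat.of k))) (x : T ⟶ P), ∃ a : (kernel φ).obj.obj (op T),
      (kernel.ι φ).hom.app (op T) a = ULift.up (Additive.ofMul (x ≫ i)) := by
    intro T x
    refine K731.Basic.exists_of_exact_of_mono (ShortComplex.mk (kernel.ι φ) φ (kernel.condition φ)) hex _ ?_
    change φ.hom.app (op T) _ = 0
    rw [K731.Full.app_eq]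
    apply ULift.ext
    exact congrArg Additive.ofMul (hu x)
  choose a ha using key
  have hinj := fun T => K731.Basic.injective_of_mono (kernel.ι φ) (op T)
  have hbij : ∀ T, Function.Bijective (a T) := by
    intro T
    constructor
    · intro x y hxy
      rw [← cancel_mono i]
      have h5 := ha T x
      rw [hxy, ha T y] at h5
      exact (congrArg (fun z => z.down.toMul) h5).symm
    · intro y
      let g : T ⟶ G := ((kernel.ι φ).hom.app (op T) y).down.toMul
      have hg : g ≫ f = 1 := by
        have h6 : φ.hom.app (op T) ((kernel.ι φ).hom.app (op T) y) = 0 := by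
          have : (kernel.ι φ ≫ φ).hom.app (op T) y = 0 := by
            rw [kernel.condition]; rfl
          exact this
        rw [K731.Full.app_eq] at h6
        exact congrArg (fun z => z.down.toMul) h6
      refine ⟨pullback.lift g (toUnit T) (by rw [hg, Hom.one_def]), ?_⟩
      apply hinj
      rw [ha, pullback.lift_fst]
      rfl
  obtain ⟨g1, g2, e, -⟩ := K731.RepPts.exists_grpObj (kernel φ) P (fun T => Equiv.ofBijective _ (hbij T)) (by
    intro T T' h x
    apply hinj
    change (kernel.ι φ).hom.app _ (a T' (h ≫ x)) = (kernel.ι φ).hom.app _ ((kernel φ).obj.map h.op (a T x))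
    rw [ha]
    have h7 := ConcreteCategory.congr_hom ((kernel.ι φ).hom.naturality h.op) (a T x)
    refine Eq.trans ?_ h7.symm
    change _ = (CGrpSh.pts Scheme.fppfPrecoverage G).obj.map h.op ((kernel.ι φ).hom.app _ (a T x))
    rw [ha]
    apply ULift.ext
    change Additive.ofMul ((h ≫ x) ≫ i) = Additive.ofMul (h ≫ x ≫ i)
    rw [Category.assoc])
  exact ⟨P, g1, g2, h3, h4, ⟨e⟩⟩

/-- The data of a quotient of an affine commutative group by a closed subgroup. -/
theorem exists_quot (φ : CGrpSh.pts Scheme.fppfPrecoverage G ⟶ CGrpSh.pts Scheme.fppfPrecoverage H) [Mono φ] :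
    ∃ (Q : Over (Spec (CommRingCat.of k))) (_ : GrpObj Q) (_ : IsCommMonObj Q) (q : H ⟶ Q) (_ : IsMonHom q)
      (w : φ ≫ CGrpSh.ptsMap Scheme.fppfPrecoverage q = 0), IsAffine Q.left ∧ LocallyOfFiniteType Q.hom ∧ Flat q.left ∧
      Surjective q.left ∧ AlgGrp.IsKernel (K731.Full.hom φ) q ∧
      (ShortComplex.mk φ (CGrpSh.ptsMap Scheme.fppfPrecoverage q) w).ShortExact := by
  have h1 := isClosedImmersion_of_mono φ
  obtain ⟨Q, g1, q, h2, h3, h4, h5, h6, h7⟩ := Groth.Agent.S3278.result k H G (K731.Full.hom φ) (by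
    intro T g n
    exact ⟨n, by rw [_root_.mul_comm g, mul_inv_cancel_right]⟩)
  have h8 : Epi (q ⊗ₘ q) := Groth.Agent.Sga7.H758.FfEpi.epi_tensor q
  have h9 : IsCommMonObj Q := by
    constructor
    rw [← cancel_epi (q ⊗ₘ q), ← Category.assoc, BraidedCategory.braiding_naturality, Category.assoc,
      ← IsMonHom.mul_hom, IsCommMonObj.mul_comm_assoc]
  have h10 : LocallyOfFinitePresentation q.left := by
    have : LocallyOfFiniteType (q.left ≫ Q.hom) := by rw [Over.w]; infer_instance
    have h11 : LocallyOfFiniteType q.left := locallyOfFiniteType_of_comp q.left Q.hom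
    have : IsLocallyNoetherian Q.left := LocallyOfFiniteType.isLocallyNoetherian Q.hom
    infer_instance
  have hw : K731.Full.hom φ ≫ q = 1 := by
    rw [h7.w, Hom.one_def]
  have hs := shortExact_of_isKernel G H Q (K731.Full.hom φ) q h7 hw
  have hw' : φ ≫ CGrpSh.ptsMap Scheme.fppfPrecoverage q = 0 := by
    have := (CGrpSh.seq Scheme.fppfPrecoverage (K731.Full.hom φ) q hw).zero
    change CGrpSh.ptsMap Scheme.fppfPrecoverage (K731.Full.hom φ) ≫ CGrpSh.ptsMap Scheme.fppfPrecoverage q = 0 at this
    rwa [K731.Full.ptsMap_hom] at this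
  refine ⟨Q, g1, h9, q, h2, hw', h3, h4, h5, h6, h7, ?_⟩
  refine ShortComplex.shortExact_of_iso (S₁ := CGrpSh.seq Scheme.fppfPrecoverage (K731.Full.hom φ) q hw)
    (S₂ := ShortComplex.mk φ (CGrpSh.ptsMap Scheme.fppfPrecoverage q) hw')
    (ShortComplex.isoMk (Iso.refl _) (Iso.refl _) (Iso.refl _) ?_ ?_) hs
  · change 𝟙 _ ≫ φ = CGrpSh.ptsMap Scheme.fppfPrecoverage (K731.Full.hom φ) ≫ 𝟙 _
    rw [K731.Full.ptsMap_hom, Category.id_comp, Category.comp_id]
  · change 𝟙 _ ≫ CGrpSh.ptsMap Scheme.fppfPrecoverage q = CGrpSh.ptsMap Scheme.fppfPrecoverage q ≫ 𝟙 _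
    rw [Category.id_comp, Category.comp_id]

end

theorem rep_kernel {F F' : BigSite.Ab Scheme.fppfPrecoverage (Spec (CommRingCat.of k))} (f : F ⟶ F') (h : Rep F)
    (h' : Rep F') : Rep (kernel f) := by
  obtain ⟨G, h1, h2, h3, h4, ⟨e⟩⟩ := h
  obtain ⟨G', h1', h2', h3', h4', ⟨e'⟩⟩ := h'
  exact rep_iso (kernel.mapIso _ f e e' (by simp)) (exists_kernel (e.hom ≫ f ≫ e'.inv))

theorem rep_cokernel {F F' : BigSite.Ab Scheme.fppfPrecoverage (Spec (CommRingCat.of k))} (f : F ⟶ F') [Mono f] (h : Rep F)
    (h' : Rep F') : Rep (cokernel f) := by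
  obtain ⟨G, h1, h2, h3, h4, ⟨e⟩⟩ := h
  obtain ⟨G', h1', h2', h3', h4', ⟨e'⟩⟩ := h'
  have hm : Mono (e.hom ≫ f ≫ e'.inv) := mono_comp _ _
  obtain ⟨Q, g1, g2, q, g3, w, g4, g5, g6, g7, g8, g9⟩ := exists_quot (e.hom ≫ f ≫ e'.inv)
  refine rep_iso ?_ (rep_pts Q)
  refine (IsColimit.coconePointUniqueUpToIso (colimit.isColimit _) g9.gIsCokernel).symm.trans ?_
  exact cokernel.mapIso _ _ e e' (by simp)

/-- A short exact sequence of sheaves of points of affine groups comes from a faithfully flat quotient map. -/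
theorem isKernel_of_shortExact {A B D : Over (Spec (CommRingCat.of k))} [GrpObj A] [IsCommMonObj A] [GrpObj B]
    [IsCommMonObj B] [GrpObj D] [IsCommMonObj D] [IsAffine A.left] [LocallyOfFiniteType A.hom] [IsAffine B.left]
    [LocallyOfFiniteType B.hom] [IsAffine D.left] [LocallyOfFiniteType D.hom]
    (a : pts Scheme.fppfPrecoverage A ⟶ pts Scheme.fppfPrecoverage B)
    (b : pts Scheme.fppfPrecoverage B ⟶ pts Scheme.fppfPrecoverage D) (w : a ≫ b = 0)
    (hs : (ShortComplex.mk a b w).ShortExact) :
    AlgGrp.IsKernel (K731.Full.hom a) (K731.Full.hom b) ∧ Flat (K731.Full.hom b).left ∧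
      Surjective (K731.Full.hom b).left := by
  have hm : Mono a := hs.mono_f
  refine ⟨Groth.Agent.S12381.isKernel_of_exact a b w hs.exact, ?_⟩
  obtain ⟨Q, g1, g2, q, g3, w', g4, g5, g6, g7, g8, g9⟩ := exists_quot a
  let e := IsColimit.coconePointUniqueUpToIso g9.gIsCokernel hs.gIsCokernel
  have he : ptsMap Scheme.fppfPrecoverage q ≫ e.hom = b :=
    IsColimit.comp_coconePointUniqueUpToIso_hom g9.gIsCokernel hs.gIsCokernel WalkingParallelPair.one
  let e' := K731.Full.iso e
  have h1 : K731.Full.hom b = q ≫ e'.hom := by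
    rw [← he, K731.Full.hom_comp, K731.Full.hom_ptsMap]
    rfl
  have h2 : IsIso e'.hom.left := inferInstanceAs (IsIso ((Over.forget _).map e'.hom))
  rw [h1, Over.comp_left]
  constructor <;> infer_instance

end K59.DevRep
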