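import Groth.Agent.TateLoc.K59.DevKey
import Groth.Agent.TateLoc.K620.HopfSeq
import Groth.Agent.S3264
import Groth.Agent.S4130
import Groth.Agent.SGA3b.K201.MTBasics

/-!
# Affine commutative algebraic groups without homomorphisms to the additive group are of multiplicative type
-/

set_option autoImplicit false

universe u

open CategoryTheory CategoryTheory.Limits MonoidalCategory CartesianMonoidalCategory MonObj AlgebraicGeometry
open CGrpSh Opposite TensorProduct

namespace K59.DevPrim

open DevRep DevFin DevKey Groth.Agent.Books.AffBridge Groth.Agent.Sga3B.GaPts Groth.Agent.Sga3B.AffPts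
  Groth.Agent.Sga3B.RootHomDict

variable {k : Type u} [Field k]

/-- A unipotent Hopf algebra of finite type is trivial or has a nonzero primitive element. -/
theorem exists_prim_or_trivial (B : Type u) [CommRing B] [HopfAlgebra k B] [Algebra.FiniteType k B]
    (h : HopfRep.IsUnipotent k B) :
    RingHom.ker (Bialgebra.counitAlgHom k B) = ⊥ ∨
      ∃ x : B, x ≠ 0 ∧ CoalgebraStruct.comul (R := k) x = x ⊗ₜ[k] (1 : B) + (1 : B) ⊗ₜ[k] x := by
  obtain ⟨C, hmono, h0, htop, hco⟩ := (Groth.Agent.S3263.result k B).1 h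
  by_cases hne : C 0 = ⊤
  · left
    rw [eq_bot_iff]
    intro b hb
    have h1 : b ∈ C 0 := hne ▸ Submodule.mem_top
    rw [h0] at h1
    obtain ⟨c, rfl⟩ := Submodule.mem_span_singleton.1 h1
    rw [RingHom.mem_ker, map_smul, map_one, smul_eq_mul, _root_.mul_one] at hb
    rw [hb, zero_smul]
    exact Submodule.zero_mem _
  · right
    exact Groth.Agent.S3264.exists_prim (k := k) C hmono h0 htop hco hne

theorem isMultTypeConst_of_no_prim (A : Type u) [CommRing A] [HopfAlgebra k A] [Algebra.FiniteType k A]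
    [Coalgebra.IsCocomm k A]
    (h : ∀ x : A, CoalgebraStruct.comul (R := k) x = x ⊗ₜ[k] (1 : A) + (1 : A) ⊗ₜ[k] x → x = 0) :
    SGA3b.IsMultTypeConst k A := by
  obtain ⟨J, hJ, hM, -, B, _, _, φ, hφ, hJB, hB⟩ := Groth.Agent.S4130.result k A
  have hBft : Algebra.FiniteType k B := K620.HopfSeq.finiteType_of_injective φ hφ
  have hJ0 : J = ⊥ := by
    rcases exists_prim_or_trivial B hB with h1 | ⟨x, hx, hxp⟩
    · rw [hJB, h1, Ideal.map_bot]
    · exfalso
      apply hx
      apply hφ
      rw [map_zero]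
      apply h
      have h2 : CoalgebraStruct.comul (R := k) (φ x) =
          TensorProduct.map (φ : B →ₗ[k] A) (φ : B →ₗ[k] A) (CoalgebraStruct.comul (R := k) x) :=
        (CoalgHomClass.map_comp_comul_apply φ x).symm
      rw [h2, hxp, map_add, TensorProduct.map_tmul, TensorProduct.map_tmul]
      have h3 : (φ : B →ₗ[k] A) 1 = 1 := map_one φ
      rw [h3]
      rfl
  have hinj : Function.Injective (Bialgebra.Quotient.mkBialgHom (R := k) J) := by
    intro x y hxy
    have h1 : Ideal.Quotient.mk J x = Ideal.Quotient.mk J y := hxy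
    rw [Ideal.Quotient.eq, hJ0] at h1
    exact sub_eq_zero.1 h1
  have hsurj : Function.Surjective (Bialgebra.Quotient.mkBialgHom (R := k) J) := Ideal.Quotient.mk_surjective
  exact K201.MTBasics.isMultTypeConst_congr (BialgEquiv.ofBijective (Bialgebra.Quotient.mkBialgHom (R := k) J) ⟨hinj, hsurj⟩).symm hM

/-- The homomorphism to `𝔾_a` attached to a primitive element. -/
theorem exists_hom_of_prim (A : Type u) [CommRing A] [HopfAlgebra k A] (x : A)
    (hx : CoalgebraStruct.comul (R := k) x = x ⊗ₜ[k] (1 : A) + (1 : A) ⊗ₜ[k] x) :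
    ∃ z : SpecOver k A ⟶ Red.Ga (Spec (CommRingCat.of k)), IsMonHom z ∧ (z = 1 → x = 0) := by
  let z : SpecOver k A ⟶ Red.Ga (Spec (CommRingCat.of k)) := gaPt (SpecOver k A) ((fnSpec (R := k) A).symm x)
  have hz : ∀ {T : Over (Spec (CommRingCat.of k))} (g : A →ₐ[k] Fn T), Red.gaFn (affPt T g ≫ z) = g x := by
    intro T g
    rw [gaFn_comp, gaFn_gaPt]
    change (fnMap (affPt T g)) ((fnSpec (R := k) A).symm x) = g x
    have h1 : (fnMap (affPt T g)).comp (fnSpec (R := k) A).symm.toAlgHom = g := by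
      apply (affPt_bijective T).1
      rw [← comp_affPt, affPt_spec]
      have h2 : (fnSpec (R := k) A).toAlgHom.comp (fnSpec (R := k) A).symm.toAlgHom = AlgHom.id k A := by
        ext a
        exact (fnSpec (R := k) A).apply_symm_apply a
      have h3 : specMap k ((fnSpec (R := k) A).toAlgHom.comp (fnSpec (R := k) A).symm.toAlgHom) = 𝟙 _ := by
        rw [h2]
        exact specMap_id k
      rw [h3, Category.comp_id]
    exact DFunLike.congr_fun h1 x
  refine ⟨z, isMonHom_of_mul z fun T s t => ?_, fun h => ?_⟩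
  · obtain ⟨f, rfl⟩ := (affPt_bijective T).2 s
    obtain ⟨g, rfl⟩ := (affPt_bijective T).2 t
    apply gaFn_injective
    rw [gaFn_mul, hz, hz]
    have h1 : affPt T f * affPt T g = affPt T (WithConv.toConv f * WithConv.toConv g).ofConv :=
      (affPt_mul T (WithConv.toConv f) (WithConv.toConv g)).symm
    rw [h1, hz]
    change Algebra.TensorProduct.lmul' k (Algebra.TensorProduct.map f g (CoalgebraStruct.comul (R := k) x)) = _
    rw [hx, map_add, map_add]
    simp only [Algebra.TensorProduct.map_tmul, Algebra.TensorProduct.lmul'_apply_tmul, map_one, _root_.mul_one,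
      _root_.one_mul]
    rfl
  · have h1 := congrArg Red.gaFn h
    rw [gaFn_gaPt, gaFn_one] at h1
    exact ((fnSpec (R := k) A).symm.map_eq_zero_iff).1 h1

/-- A sheaf `Rep` without nonzero homomorphisms to `𝔾_a` is of multiplicative type. -/
theorem exists_mult {F : BigSite.Ab Scheme.fppfPrecoverage (Spec (CommRingCat.of k))} (hF : Rep F)
    (h : ∀ x : F ⟶ CGrpSh.pts Scheme.fppfPrecoverage (Red.Ga (Spec (CommRingCat.of k))), x = 0) :
    ∃ (A : Type u) (_ : CommRing A) (_ : HopfAlgebra k A) (_ : Coalgebra.IsCocomm k A) (_ : Algebra.FiniteType k A)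
      (_ : IsCommMonObj (SpecOver k A)), SGA3b.IsMultTypeConst k A ∧
        Nonempty (CGrpSh.pts Scheme.fppfPrecoverage (SpecOver k A) ≅ F) := by
  obtain ⟨G, _, _, _, hlft, ⟨e⟩⟩ := hF
  obtain ⟨A, _, _, _, e', he', hft⟩ := K620.HopfSeq.exists_model G
  have hA := hft hlft
  have hc : IsCommMonObj (SpecOver k A) := K620.HopfSeq.isCommMonObj_of_iso e'
  have hinv : IsMonHom e'.inv := inferInstance
  have hiso : IsIso (CGrpSh.ptsMap Scheme.fppfPrecoverage e'.inv) := isIso_ptsMap e'.inv
  refine ⟨A, inferInstance, inferInstance, inferInstance, hA, hc, isMultTypeConst_of_no_prim A fun x hx => ?_,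
    ⟨(asIso (CGrpSh.ptsMap Scheme.fppfPrecoverage e'.inv)).trans e⟩⟩
  obtain ⟨z, hz, hz0⟩ := exists_hom_of_prim A x hx
  apply hz0
  have h1 := h (e.inv ≫ inv (CGrpSh.ptsMap Scheme.fppfPrecoverage e'.inv) ≫ CGrpSh.ptsMap Scheme.fppfPrecoverage z)
  have h2 : CGrpSh.ptsMap Scheme.fppfPrecoverage z = 0 := by
    rw [← cancel_epi (inv (CGrpSh.ptsMap Scheme.fppfPrecoverage e'.inv)), ← cancel_epi e.inv, h1, comp_zero, comp_zero]
  have h3 := congrArg (fun f => K731.Full.hom f) h2
  simp only [K731.Full.hom_ptsMap] at h3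
  exact h3

end K59.DevPrim
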