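import Groth.Agent.GmDual.K778.GroupLift
import Groth.Agent.GmDual.K778.GroupFG
import Mathlib.FieldTheory.IsAlgClosed.AlgebraicClosure
import Mathlib.RingTheory.Coalgebra.TensorProduct
import Mathlib.RingTheory.HopfAlgebra.TensorProduct
import Mathlib.RingTheory.FiniteStability

/-!
# Group-like elements lift up to a uniform power

Let `A` be a finitely generated commutative and cocommutative Hopf algebra over a field. There is `d > 0` such that for every
surjection `A → B` of Hopf algebras the `d`-th power of every group-like element of `B` lifts to a group-like element of `A`.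
-/

set_option autoImplicit false

universe u

open TensorProduct Coalgebra WithConv

namespace K59.NormLift

open K778.GroupLift

section glt

variable {k : Type*} [Field k] {A B : Type*} [CommRing A] [Bialgebra k A] [CommRing B] [Bialgebra k B]

/-- Group-like elements of `A ⊗ K` over `K`, in terms of `k`-algebra maps. -/
structure GLT {K : Type*} [CommRing K] [Algebra k K] (z : A ⊗[k] K) : Prop where
  counit : Algebra.TensorProduct.map (Bialgebra.counitAlgHom k A) (AlgHom.id k K) z = 1
  comul : Algebra.TensorProduct.map (Bialgebra.comulAlgHom k A) (AlgHom.id k K) z =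
    Algebra.TensorProduct.map (Algebra.TensorProduct.includeLeft : A →ₐ[k] A ⊗[k] A) (AlgHom.id k K) z *
      Algebra.TensorProduct.map (Algebra.TensorProduct.includeRight : A →ₐ[k] A ⊗[k] A) (AlgHom.id k K) z

theorem map_comm {A A' : Type*} [CommRing A] [Algebra k A] [CommRing A'] [Algebra k A'] {K K' : Type*} [CommRing K]
    [Algebra k K] [CommRing K'] [Algebra k K'] (σ : K →ₐ[k] K') (f : A →ₐ[k] A') (z : A ⊗[k] K) :
    Algebra.TensorProduct.map f (AlgHom.id k K') (Algebra.TensorProduct.map (AlgHom.id k A) σ z) =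
      Algebra.TensorProduct.map (AlgHom.id k A') σ (Algebra.TensorProduct.map f (AlgHom.id k K) z) := by
  induction z with
  | zero => simp only [map_zero]
  | add x y hx hy => simp only [map_add, hx, hy]
  | tmul a c => rfl

theorem map_injective {A : Type*} [CommRing A] [Algebra k A] {K K' : Type*} [CommRing K]
    [Algebra k K] [CommRing K'] [Algebra k K'] (σ : K →ₐ[k] K') (hσ : Function.Injective σ) :
    Function.Injective (Algebra.TensorProduct.map (AlgHom.id k A) σ) := by
  have h := Module.Flat.lTensor_preserves_injective_linearMap (M := A) σ.toLinearMap hσ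
  exact h

theorem GLT.map {K K' : Type*} [CommRing K] [Algebra k K] [CommRing K'] [Algebra k K'] (σ : K →ₐ[k] K')
    {z : A ⊗[k] K} (h : GLT z) : GLT (Algebra.TensorProduct.map (AlgHom.id k A) σ z) where
  counit := by rw [map_comm, h.counit, map_one]
  comul := by rw [map_comm, h.comul, map_mul, map_comm, map_comm]

theorem GLT.of_map {K K' : Type*} [CommRing K] [Algebra k K] [CommRing K'] [Algebra k K'] (σ : K →ₐ[k] K')
    (hσ : Function.Injective σ) {z : A ⊗[k] K} (h : GLT (Algebra.TensorProduct.map (AlgHom.id k A) σ z)) : GLT z where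
  counit := by
    apply map_injective σ hσ
    rw [← map_comm, h.counit, map_one]
  comul := by
    apply map_injective σ hσ
    rw [← map_comm, h.comul, map_mul, ← map_comm, ← map_comm]

/-- The norm of a group-like element is group-like. -/
theorem norm_isGroupLike {K : Type*} [CommRing K] [Algebra k K] [Module.Finite k K] {z : A ⊗[k] K} (h : GLT z) :
    IsGroupLikeElem k (Algebra.norm A z) where
  counit_eq_one := by
    have e2 := norm_map (Bialgebra.counitAlgHom k A) z
    rw [h.counit, map_one] at e2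
    exact e2.symm
  comul_eq_tmul_self := by
    have e2 := norm_map (Bialgebra.comulAlgHom k A) z
    rw [h.comul, map_mul, norm_map, norm_map] at e2
    refine e2.symm.trans ?_
    change (_ ⊗ₜ[k] (1 : A)) * ((1 : A) ⊗ₜ[k] _) = _
    rw [Algebra.TensorProduct.tmul_mul_tmul, one_mul, mul_one]

theorem norm_map_eq {K : Type*} [CommRing K] [Algebra k K] [Module.Finite k K] {z : A ⊗[k] K} (φ : A →ₐ[k] B) {b : B}
    (hb : b ≠ 0) (h : Algebra.TensorProduct.map φ (AlgHom.id k K) z = b ⊗ₜ 1) :
    φ (Algebra.norm A z) = b ^ Module.finrank k K := by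
  have e2 := norm_map φ z
  have e1 : Algebra.TensorProduct.map φ (AlgHom.id k K) z = algebraMap B (B ⊗[k] K) b := h
  rw [e1] at e2
  refine e2.symm.trans ?_
  have hn : Nontrivial B := ⟨b, 0, hb⟩
  rw [Algebra.norm_algebraMap, Module.finrank_baseChange]

end glt

section lift

variable {k : Type u} [Field k] {A B : Type u} [CommRing A] [Bialgebra k A] [Coalgebra.IsCocomm k A]
  [CommRing B] [Bialgebra k B] [Coalgebra.IsCocomm k B]

/-- Group-like elements lift after a finite extension. -/
theorem exists_glt (φ : A →ₐc[k] B) (hφ : Function.Surjective φ) {h : B} (hh : IsGroupLikeElem k h) :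
    ∃ (K : Type u) (_ : Field K) (_ : Algebra k K) (_ : Module.Finite k K) (z : A ⊗[k] K),
      GLT z ∧ Algebra.TensorProduct.map (φ : A →ₐ[k] B) (AlgHom.id k K) z = h ⊗ₜ 1 := by
  obtain ⟨K, i1, i2, i3, χ, a, h1, h2⟩ := exists_char φ hφ hh
  obtain ⟨z, hz⟩ := exists_ev a χ.toLinearMap (fun f hf => h1 f hf)
  have hz' : ∀ f : A →ₗ[k] k, χ (toConv f) = ev K f z := fun f => hz (toConv f)
  refine ⟨K, i1, i2, i3, z, ⟨?_, ?_⟩, ?_⟩
  · refine sep' _ _ fun f => ?_
    rw [ev_map]
    have e3 : f ∘ₗ (Bialgebra.counitAlgHom k A).toLinearMap = f 1 • counit (R := k) (A := A) := by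
      ext x
      change f (counit (R := k) x) = f 1 * counit (R := k) x
      rw [← smul_eq_mul (f 1), smul_eq_mul, mul_comm, ← smul_eq_mul, ← map_smul, smul_eq_mul, mul_one]
    have e4 : toConv (counit (R := k) (A := A)) = 1 := rfl
    have e5 : ev K (f 1 • counit (R := k) (A := A)) z = f 1 • ev K (counit (R := k) (A := A)) z := by
      rw [← hz', ← hz', toConv_smul, map_smul]
    have e6 : ev K (counit (R := k) (A := A)) z = 1 := by
      rw [← hz', e4]
      exact map_one χ
    rw [e3, e5, e6, Algebra.TensorProduct.one_def, ev_tmul]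
  · refine sep₂ _ _ fun f g => ?_
    rw [ev_mul, ev_map, ← hz', ← hz' f, ← hz' g, ← map_mul]
    rfl
  · refine sep' _ _ fun f => ?_
    rw [ev_map]
    rw [ev_tmul]
    refine ((hz' _).symm.trans (h2 (toConv f))).trans ?_
    exact Algebra.algebraMap_eq_smul_one _

end lift

section basechange

variable {k : Type u} [Field k] (Ω : Type u) [Field Ω] [Algebra k Ω] {A : Type u} [CommRing A] [HopfAlgebra k A]

/-- The map `(A ⊗ A) ⊗ Ω → (Ω ⊗ A) ⊗_Ω (Ω ⊗ A)`. -/
noncomputable def th : (A ⊗[k] A) ⊗[k] Ω →ₐ[k] (Ω ⊗[k] A) ⊗[Ω] (Ω ⊗[k] A) :=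
  Algebra.TensorProduct.lift
    (Algebra.TensorProduct.lift
      (((Algebra.TensorProduct.includeLeft : (Ω ⊗[k] A) →ₐ[Ω] (Ω ⊗[k] A) ⊗[Ω] (Ω ⊗[k] A)).restrictScalars k).comp
        (Algebra.TensorProduct.includeRight : A →ₐ[k] Ω ⊗[k] A))
      (((Algebra.TensorProduct.includeRight : (Ω ⊗[k] A) →ₐ[Ω] (Ω ⊗[k] A) ⊗[Ω] (Ω ⊗[k] A)).restrictScalars k).comp
        (Algebra.TensorProduct.includeRight : A →ₐ[k] Ω ⊗[k] A)) (fun _ _ => .all ..))
    (IsScalarTower.toAlgHom k Ω ((Ω ⊗[k] A) ⊗[Ω] (Ω ⊗[k] A))) (fun _ _ => .all ..)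

theorem th_tmul (a b : A) (c : Ω) : th Ω ((a ⊗ₜ[k] b) ⊗ₜ[k] c) = c • (((1 : Ω) ⊗ₜ[k] a) ⊗ₜ[Ω] ((1 : Ω) ⊗ₜ[k] b)) := by
  simp only [th, Algebra.TensorProduct.lift_tmul]
  change ((((1 : Ω) ⊗ₜ[k] a) ⊗ₜ[Ω] 1) * (1 ⊗ₜ[Ω] ((1 : Ω) ⊗ₜ[k] b))) * algebraMap Ω _ c = _
  rw [Algebra.TensorProduct.tmul_mul_tmul, mul_one, one_mul, mul_comm, ← Algebra.smul_def]

/-- The swap `A ⊗ Ω → Ω ⊗ A`. -/
noncomputable def tau : A ⊗[k] Ω ≃ₐ[k] Ω ⊗[k] A := Algebra.TensorProduct.comm k A Ω

theorem comul_one_tmul (a : A) (c : Ω) :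
    comul (R := Ω) (c ⊗ₜ[k] a : Ω ⊗[k] A) = th Ω ((comul (R := k) a) ⊗ₜ[k] c) := by
  rw [TensorProduct.comul_tmul, CommSemiring.comul_apply]
  generalize comul (R := k) a = t
  induction t with
  | zero => simp only [tmul_zero, zero_tmul, map_zero]
  | add x y hx hy => simp only [tmul_add, add_tmul, map_add, hx, hy]
  | tmul x y =>
    rw [th_tmul, AlgebraTensorModule.tensorTensorTensorComm_tmul]
    have h1 : (c ⊗ₜ[k] y : Ω ⊗[k] A) = c • ((1 : Ω) ⊗ₜ[k] y) := by rw [smul_tmul', smul_eq_mul, mul_one]
    rw [h1, tmul_smul]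

theorem th_map_comul (z : A ⊗[k] Ω) :
    comul (R := Ω) (tau Ω z) = th Ω (Algebra.TensorProduct.map (Bialgebra.comulAlgHom k A) (AlgHom.id k Ω) z) := by
  induction z with
  | zero => simp only [map_zero]
  | add x y hx hy => simp only [map_add, hx, hy]
  | tmul a c => exact comul_one_tmul Ω a c

theorem th_map_left (z : A ⊗[k] Ω) :
    th Ω (Algebra.TensorProduct.map (Algebra.TensorProduct.includeLeft : A →ₐ[k] A ⊗[k] A) (AlgHom.id k Ω) z) =
      tau Ω z ⊗ₜ 1 := by
  induction z with
  | zero => simp only [map_zero, zero_tmul]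
  | add x y hx hy => simp only [map_add, hx, hy, add_tmul]
  | tmul a c =>
    refine (th_tmul Ω a 1 c).trans ?_
    rw [smul_tmul', smul_tmul', smul_eq_mul, mul_one]
    rfl

theorem th_map_right (z : A ⊗[k] Ω) :
    th Ω (Algebra.TensorProduct.map (Algebra.TensorProduct.includeRight : A →ₐ[k] A ⊗[k] A) (AlgHom.id k Ω) z) =
      1 ⊗ₜ tau Ω z := by
  induction z with
  | zero => simp only [map_zero, tmul_zero]
  | add x y hx hy => simp only [map_add, hx, hy, tmul_add]
  | tmul a c =>
    refine (th_tmul Ω 1 a c).trans ?_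
    rw [← tmul_smul, smul_tmul', smul_eq_mul, mul_one]
    rfl

/-- Group-like elements of the base change. -/
theorem isGroupLikeElem_tau {z : A ⊗[k] Ω} (h : GLT z) : IsGroupLikeElem Ω (tau Ω z) where
  counit_eq_one := by
    have h1 : ∀ z : A ⊗[k] Ω, counit (R := Ω) (tau Ω z) =
        Algebra.TensorProduct.lid k Ω (Algebra.TensorProduct.map (Bialgebra.counitAlgHom k A) (AlgHom.id k Ω) z) := by
      intro z
      induction z with
      | zero => simp only [map_zero]
      | add x y hx hy => simp only [map_add, hx, hy]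
      | tmul a c =>
        change counit (R := Ω) (c ⊗ₜ[k] a : Ω ⊗[k] A) = (counit (R := k) a) • c
        rw [TensorProduct.counit_tmul]
        rfl
    rw [h1, h.counit, map_one]
  comul_eq_tmul_self := by
    rw [th_map_comul, h.comul, map_mul, th_map_left, th_map_right, Algebra.TensorProduct.tmul_mul_tmul, mul_one, one_mul]

variable {Ω} in
theorem range_mono {L L' : IntermediateField k Ω} (h : L ≤ L') :
    (Algebra.TensorProduct.map L.val (AlgHom.id k A)).range ≤ (Algebra.TensorProduct.map L'.val (AlgHom.id k A)).range := by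
  rintro _ ⟨x, rfl⟩
  refine ⟨Algebra.TensorProduct.map (IntermediateField.inclusion h) (AlgHom.id k A) x, ?_⟩
  induction x with
  | zero => simp only [map_zero]
  | add x y hx hy => simp only [map_add]; exact congrArg₂ _ hx hy
  | tmul c a => rfl

variable {Ω} in
/-- Every element of `Ω ⊗ A` is defined over a finite subextension. -/
theorem exists_field [Algebra.IsAlgebraic k Ω] (x : Ω ⊗[k] A) :
    ∃ L : IntermediateField k Ω, FiniteDimensional k L ∧ x ∈ (Algebra.TensorProduct.map L.val (AlgHom.id k A)).range := by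
  induction x with
  | zero => exact ⟨⊥, inferInstance, zero_mem _⟩
  | add x y hx hy =>
    obtain ⟨L, hL, hx⟩ := hx
    obtain ⟨L', hL', hy⟩ := hy
    exact ⟨L ⊔ L', inferInstance, add_mem (range_mono le_sup_left hx) (range_mono le_sup_right hy)⟩
  | tmul c a =>
    have hc : IsIntegral k c := (Algebra.IsAlgebraic.isAlgebraic c).isIntegral
    refine ⟨IntermediateField.adjoin k {c}, IntermediateField.adjoin.finiteDimensional hc,
      (⟨c, IntermediateField.mem_adjoin_simple_self k c⟩ : IntermediateField.adjoin k {c}) ⊗ₜ a, rfl⟩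

variable {Ω} in
/-- A finitely generated commutative Hopf algebra has all its group-like elements defined over a finite subextension. -/
theorem exists_field_groupLike [Algebra.IsAlgebraic k Ω] [Algebra.FiniteType k A] :
    ∃ L : IntermediateField k Ω, FiniteDimensional k L ∧ ∀ g : GroupLike Ω (Ω ⊗[k] A),
      g.val ∈ (Algebra.TensorProduct.map L.val (AlgHom.id k A)).range := by
  have hfg : Group.FG (GroupLike Ω (Ω ⊗[k] A)) := K778.GroupFG.fg
  obtain ⟨s, hs⟩ := (Group.fg_iff_monoid_fg.1 hfg).fg_top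
  choose L hL hx using fun g : GroupLike Ω (Ω ⊗[k] A) => exists_field g.val
  refine ⟨s.sup L, ?_, fun g => ?_⟩
  · have h1 : ∀ t : Finset (GroupLike Ω (Ω ⊗[k] A)), FiniteDimensional k (t.sup L : IntermediateField k Ω) := by
      classical
      intro t
      induction t using Finset.induction_on with
      | empty => rw [Finset.sup_empty]; infer_instance
      | insert a t ha ih =>
        rw [Finset.sup_insert]
        have := hL a
        infer_instance
    exact h1 s
  · have hg : g ∈ Submonoid.closure (s : Set (GroupLike Ω (Ω ⊗[k] A))) := by rw [hs]; trivial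
    induction hg using Submonoid.closure_induction with
    | mem x h => exact range_mono (Finset.le_sup h) (hx x)
    | one => exact one_mem _
    | mul x y hx hy hx' hy' => exact mul_mem hx' hy'

end basechange

/-- **Group-like elements lift up to a uniform power.** -/
theorem exists_uniform {k : Type u} [Field k] (A : Type u) [CommRing A] [HopfAlgebra k A] [Coalgebra.IsCocomm k A]
    [Algebra.FiniteType k A] :
    ∃ d : ℕ, 0 < d ∧ ∀ (B : Type u) [CommRing B] [HopfAlgebra k B] [Coalgebra.IsCocomm k B] (φ : A →ₐc[k] B),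
      Function.Surjective φ → ∀ h : B, IsGroupLikeElem k h → ∃ g : A, IsGroupLikeElem k g ∧ φ g = h ^ d := by
  obtain ⟨L, hL, H⟩ := exists_field_groupLike (k := k) (Ω := AlgebraicClosure k) (A := A)
  refine ⟨Module.finrank k L, Module.finrank_pos, fun B _ _ _ φ hφ h hh => ?_⟩
  obtain ⟨K, _, _, _, z, hz, hφz⟩ := exists_glt φ hφ hh
  let σ : K →ₐ[k] AlgebraicClosure k := IsAlgClosed.lift
  let z' := Algebra.TensorProduct.map (AlgHom.id k A) σ z
  have hz' : GLT z' := hz.map σ
  obtain ⟨w, hw⟩ := H ⟨tau _ z', isGroupLikeElem_tau _ hz'⟩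
  let w' : A ⊗[k] L := (Algebra.TensorProduct.comm k L A) w
  have hw' : Algebra.TensorProduct.map (AlgHom.id k A) L.val w' = z' := by
    apply (tau (AlgebraicClosure k)).injective
    refine Eq.trans ?_ hw
    have key : ∀ w : L ⊗[k] A, tau (AlgebraicClosure k) (Algebra.TensorProduct.map (AlgHom.id k A) L.val
        (Algebra.TensorProduct.comm k L A w)) = Algebra.TensorProduct.map L.val (AlgHom.id k A) w := by
      intro w
      induction w with
      | zero => simp only [map_zero]
      | add x y hx hy => simp only [map_add]; exact congrArg₂ _ hx hy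
      | tmul c a => rfl
    exact key w
  have h1 : GLT w' := GLT.of_map L.val Subtype.val_injective (by rw [hw']; exact hz')
  have h2 : Algebra.TensorProduct.map (φ : A →ₐ[k] B) (AlgHom.id k L) w' = h ⊗ₜ 1 := by
    apply map_injective L.val Subtype.val_injective
    rw [← map_comm, hw', map_comm, hφz, Algebra.TensorProduct.map_tmul, Algebra.TensorProduct.map_tmul, map_one, map_one]
  exact ⟨Algebra.norm A w', norm_isGroupLike h1, norm_map_eq (φ : A →ₐ[k] B) hh.ne_zero h2⟩

end K59.NormLift
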