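import Groth.Agent.TateLoc.K809.Les
import Groth.Agent.TateLoc.K59.DevAbs
import Mathlib.Algebra.Category.Grp.Injective

/-!
# The pairing `Ext²(X, F) × Hom(F, M) → Ext²(X, M)`: devissage from finite objects to almost tori and towers

`Per X M F`: every homomorphism `Hom(F, M) → Ext²(X, M)` comes from a unique class in `Ext²(X, F)` (with separate
injectivity and surjectivity).
-/

set_option autoImplicit false

universe w v u

open CategoryTheory CategoryTheory.Limits Abelian K809.Les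

namespace K59.Pair

variable {C : Type u} [Category.{v} C] [Abelian C] [HasExt.{w} C]

/-- The pairing with characters is injective on `Ext²(X, F)`. -/
def Inj (X M F : C) : Prop := ∀ α : Ext X F 2, (∀ χ : F ⟶ M, mp X χ 2 α = 0) → α = 0

/-- Every homomorphism from the characters to `Ext²(X, M)` comes from `Ext²(X, F)`. -/
def Sur (X M F : C) : Prop := ∀ f : (F ⟶ M) →+ Ext X M 2, ∃ α : Ext X F 2, ∀ χ : F ⟶ M, mp X χ 2 α = f χ

variable {X M : C}

theorem inj_iso {F F' : C} (e : F ≅ F') (h : Inj X M F) : Inj X M F' := by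
  intro α hα
  have h1 : mp X e.inv 2 α = 0 := h _ fun χ => by
    rw [← mp_comp]; exact hα _
  have h2 := congrArg (mp X e.hom 2) h1
  rwa [← mp_comp, e.inv_hom_id, mp_id, map_zero] at h2

theorem sur_iso {F F' : C} (e : F ≅ F') (h : Sur X M F) : Sur X M F' := by
  intro f
  obtain ⟨α, hα⟩ := h (f.comp (Preadditive.leftComp M e.inv))
  refine ⟨mp X e.hom 2 α, fun χ => ?_⟩
  rw [← mp_comp, hα]
  change f (e.inv ≫ e.hom ≫ χ) = f χ
  rw [Iso.inv_hom_id_assoc]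

set_option linter.unusedSectionVars false

section tower

variable {S : ShortComplex C} (hS : S.ShortExact)

include hS in
theorem restr_surj (hE : Subsingleton (Ext S.X₃ M 1)) (ψ : S.X₁ ⟶ M) : ∃ χ : S.X₂ ⟶ M, S.f ≫ χ = ψ := by
  obtain ⟨x, hx⟩ := Ext.contravariant_sequence_exact₁ hS (Y := M) (Ext.mk₀ ψ) (n₁ := 1) rfl (Subsingleton.elim _ _)
  obtain ⟨χ, rfl⟩ := Ext.homEquiv₀.symm.surjective x
  refine ⟨χ, ?_⟩
  apply Ext.homEquiv₀.symm.injective
  exact (Ext.mk₀_comp_mk₀ _ _).symm.trans hx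

include hS in
theorem restr_inj (h0 : ∀ x : S.X₃ ⟶ M, x = 0) (χ : S.X₂ ⟶ M) (h : S.f ≫ χ = 0) : χ = 0 := by
  obtain ⟨x, hx⟩ := CokernelCofork.IsColimit.desc' hS.gIsCokernel χ h
  have : x = 0 := h0 x
  rw [← hx, this]
  exact comp_zero

include hS in
theorem inj_of_ses (h2 : Subsingleton (Ext X S.X₃ 2)) (hE : Subsingleton (Ext S.X₃ M 1)) (h : Inj X M S.X₁) :
    Inj X M S.X₂ := by
  intro α hα
  obtain ⟨β, rfl⟩ := (exact₂ X hS 2 α).1 (Subsingleton.elim _ _)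
  have : β = 0 := h β fun ψ => by
    obtain ⟨χ, rfl⟩ := restr_surj hS hE ψ
    rw [mp_comp]
    exact hα χ
  rw [this, map_zero]

include hS in
theorem sur_of_ses (h0 : ∀ x : S.X₃ ⟶ M, x = 0) (hE : Subsingleton (Ext S.X₃ M 1)) (h : Sur X M S.X₁) :
    Sur X M S.X₂ := by
  intro f
  let r : (S.X₂ ⟶ M) →+ (S.X₁ ⟶ M) := Preadditive.leftComp M S.f
  have hr : Function.Bijective r := ⟨by
    rw [injective_iff_map_eq_zero]
    intro χ hχ
    exact restr_inj hS h0 χ hχ, fun ψ => restr_surj hS hE ψ⟩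
  let e : (S.X₂ ⟶ M) ≃+ (S.X₁ ⟶ M) := AddEquiv.ofBijective r hr
  obtain ⟨β, hβ⟩ := h (f.comp e.symm.toAddMonoidHom)
  refine ⟨mp X S.f 2 β, fun χ => ?_⟩
  rw [← mp_comp]
  refine (hβ (S.f ≫ χ)).trans ?_
  change f (e.symm (e χ)) = f χ
  rw [AddEquiv.symm_apply_apply]

/-- Towers of copies of `Z` behave like `Z`. -/
theorem towZ (Z : C) (hZ2 : Subsingleton (Ext X Z 2)) (hZ0 : ∀ x : Z ⟶ M, x = 0) (hZ1 : Subsingleton (Ext Z M 1)) (n : ℕ) :
    ∀ U : C, DevAbs.TowZ Z n U → Subsingleton (Ext X U 2) ∧ (∀ x : U ⟶ M, x = 0) ∧ Subsingleton (Ext U M 1) := by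
  induction n with
  | zero =>
    intro U hU
    refine ⟨?_, fun x => hU.eq_of_src _ _, ?_⟩
    · exact subsingleton_of_forall_eq 0 fun x => by
        have := mp_id X 2 x
        rw [← this, hU.eq_of_src (𝟙 U) 0, mp_zero]
    · exact subsingleton_of_forall_eq 0 fun x => by
        have := Ext.mk₀_id_comp x
        rw [← this, hU.eq_of_src (𝟙 U) 0, Ext.mk₀_zero, Ext.zero_comp]
  | succ n ih =>
    rintro U ⟨q, hq, hU⟩
    obtain ⟨a1, a2, a3⟩ := ih _ hU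
    have hs := DevAbs.ses_kernel q
    refine ⟨subsingleton_mid X hs a1 hZ2, fun x => ?_, ?_⟩
    · exact restr_inj hs hZ0 x (a2 _)
    · refine subsingleton_of_forall_eq 0 fun x => ?_
      obtain ⟨y, rfl⟩ := Ext.contravariant_sequence_exact₂ hs _ x (Subsingleton.elim _ _)
      rw [Subsingleton.elim y 0, Ext.comp_zero]

end tower

section almost

variable {T H A : C} (j : T ⟶ H) (q : H ⟶ A) (w : j ≫ q = 0) (hs : (ShortComplex.mk j q w).ShortExact) (n : ℕ)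
  (hn : n • 𝟙 A = 0) (hT : ∀ N : ℕ, 0 < N → Epi (N • 𝟙 T))

include hs hn in
theorem exists_pi : ∃ π : H ⟶ T, π ≫ j = n • 𝟙 H := by
  have h1 : (n • 𝟙 H) ≫ q = 0 := by
    rw [Preadditive.nsmul_comp, Category.id_comp, ← Category.comp_id q, ← Preadditive.comp_nsmul, hn, comp_zero]
  obtain ⟨π, hπ⟩ := KernelFork.IsLimit.lift' hs.fIsKernel (n • 𝟙 H) h1
  exact ⟨π, hπ⟩

variable {j}

theorem seq_w [Mono j] {π : H ⟶ T} {N : ℕ} (h : π ≫ j = N • 𝟙 H) : kernel.ι (N • 𝟙 H) ≫ π = 0 := by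
  rw [← cancel_mono j, Category.assoc, h, kernel.condition, zero_comp]

theorem seq_exact [Mono j] {π : H ⟶ T} {N : ℕ} (h : π ≫ j = N • 𝟙 H) (hN : Epi (N • 𝟙 T)) :
    (ShortComplex.mk (kernel.ι (N • 𝟙 H)) π (seq_w h)).ShortExact := by
  have hπ : Epi π := by
    have h1 : j ≫ π = N • 𝟙 T := by
      rw [← cancel_mono j, Category.assoc, h, Preadditive.comp_nsmul, Preadditive.nsmul_comp, Category.comp_id,
        Category.id_comp]
    have : Epi (j ≫ π) := by rw [h1]; exact hN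
    exact epi_of_epi j π
  have : (ShortComplex.mk (kernel.ι (N • 𝟙 H)) π (seq_w h)).Exact := by
    apply ShortComplex.exact_of_f_is_kernel
    refine KernelFork.IsLimit.ofι _ _ (fun {W} k hk => kernel.lift _ k ?_) (fun {W} k hk => kernel.lift_ι _ _ _)
      (fun {W} k hk m hm => ?_)
    · have h2 : k ≫ π = 0 := hk
      rw [← h, ← Category.assoc, h2, zero_comp]
    · rw [← cancel_mono (kernel.ι (N • 𝟙 H)), kernel.lift_ι]
      exact hm
  exact { exact := this }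

include hs hn hT in
/-- Surjectivity of the pairing for an almost torus. -/
theorem sur_almost (hn0 : 0 < n) (hK : ∀ N : ℕ, 0 < N → Sur X M (kernel (N • 𝟙 H))) (hfg : AddGroup.FG (H ⟶ M))
    (htor : ∀ x : Ext X M 2, IsOfFinAddOrder x) (hdiv : ∀ (N : ℕ), 0 < N → ∀ x : Ext X M 2, ∃ y, N • y = x) :
    Sur X M H := by
  have hj : Mono j := hs.mono_f
  obtain ⟨π, hπ⟩ := exists_pi j q w hs n hn
  intro f
  obtain ⟨N₁, hN₁, hf⟩ : ∃ N₁ : ℕ, 0 < N₁ ∧ ∀ χ, N₁ • f χ = 0 := by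
    obtain ⟨s, hsf, hsfin⟩ := AddGroup.fg_iff.1 hfg
    choose m hm hm' using fun χ : H ⟶ M => isOfFinAddOrder_iff_nsmul_eq_zero.1 (htor (f χ))
    refine ⟨hsfin.toFinset.prod m, Finset.prod_pos fun χ _ => hm χ, fun χ => ?_⟩
    have h1 : χ ∈ AddSubgroup.closure s := by rw [hsf]; trivial
    induction h1 using AddSubgroup.closure_induction with
    | mem x hx =>
      obtain ⟨c, hc⟩ := Finset.dvd_prod_of_mem m (hsfin.mem_toFinset.2 hx)
      rw [hc, mul_comm, mul_nsmul', hm', smul_zero]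
    | zero => rw [map_zero, smul_zero]
    | add x y hx hy hx' hy' => rw [map_add, smul_add, hx', hy', add_zero]
    | neg x hx hx' => rw [map_neg, smul_neg, hx', neg_zero]
  have hN : 0 < n * N₁ := Nat.mul_pos hn0 hN₁
  have hπN : (N₁ • π) ≫ j = (n * N₁) • 𝟙 H := by
    rw [Preadditive.nsmul_comp, hπ, smul_smul, mul_comm]
  have hsN := seq_exact hπN (hT _ hN)
  let r : (H ⟶ M) →+ (kernel ((n * N₁) • 𝟙 H) ⟶ M) := Preadditive.leftComp M (kernel.ι ((n * N₁) • 𝟙 H))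
  have hker : ∀ χ : H ⟶ M, r χ = 0 → f χ = 0 := by
    intro χ hχ
    obtain ⟨χ', hχ'⟩ := CokernelCofork.IsColimit.desc' hsN.gIsCokernel χ hχ
    have h1 : χ = N₁ • (π ≫ χ') := by
      rw [← Preadditive.nsmul_comp]; exact hχ'.symm
    rw [h1, map_nsmul, hf]
  let f' : r.range →+ Ext X M 2 := AddMonoidHom.mk' (fun y => f y.2.choose) (by
    intro y y'
    rw [← map_add, ← sub_eq_zero, ← map_sub]
    apply hker
    rw [map_sub, map_add]
    have h1 := (y + y').2.choose_spec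
    have h2 := y.2.choose_spec
    have h3 := y'.2.choose_spec
    rw [h1, h2, h3]
    exact sub_self _)
  have hf' : ∀ χ, f' ⟨r χ, χ, rfl⟩ = f χ := by
    intro χ
    rw [← sub_eq_zero]
    change f _ - f _ = 0
    rw [← map_sub]
    apply hker
    rw [map_sub, sub_eq_zero]
    exact (⟨r χ, χ, rfl⟩ : r.range).2.choose_spec
  let _ : DivisibleBy (Ext X M 2) ℤ := divisibleByOfSMulRightSurj _ _ (by
    intro m hm x
    rcases Int.natAbs_eq m with h | h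
    · obtain ⟨y, hy⟩ := hdiv m.natAbs (Int.natAbs_pos.2 hm) x
      refine ⟨y, ?_⟩
      change m • y = x
      rw [h, natCast_zsmul, hy]
    · obtain ⟨y, hy⟩ := hdiv m.natAbs (Int.natAbs_pos.2 hm) x
      refine ⟨-y, ?_⟩
      change m • (-y) = x
      rw [h, neg_smul, smul_neg, neg_neg, natCast_zsmul, hy])
  obtain ⟨g, hg⟩ := (Module.Baer.of_divisible (Ext X M 2)).extension_property_addMonoidHom r.range.subtype
    (AddSubgroup.subtype_injective _) f'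
  obtain ⟨β, hβ⟩ := hK _ hN g
  refine ⟨mp X (kernel.ι _) 2 β, fun χ => ?_⟩
  rw [← mp_comp]
  refine (hβ _).trans ?_
  refine Eq.trans ?_ (hf' χ)
  exact DFunLike.congr_fun hg (⟨r χ, χ, rfl⟩ : r.range)

theorem comp_nsmul_ext {A B : C} {m : ℕ} (x : Ext A B m) (d : ℕ) : (Ext.mk₀ (d • 𝟙 A)).comp x (zero_add m) = d • x := by
  induction d with
  | zero => rw [zero_smul, zero_smul, Ext.mk₀_zero, Ext.zero_comp]
  | succ d ih => rw [succ_nsmul, succ_nsmul, Ext.mk₀_add, Ext.add_comp, ih, Ext.mk₀_id_comp]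

theorem ext_comp_nsmul {A B D : C} {m : ℕ} (x : Ext A B m) (f : B ⟶ D) (d : ℕ) :
    x.comp (Ext.mk₀ (d • f)) (add_zero m) = d • x.comp (Ext.mk₀ f) (add_zero m) :=
  mp_nsmul A d f m x

/-- If `d ψ` extends to `H` then the restriction of `ψ` to the smaller kernel extends. -/
theorem exists_extension [Mono j] {π : H ⟶ T} {N d : ℕ} (h : π ≫ j = N • 𝟙 H) (hN : Epi (N • 𝟙 T))
    (hNd : Epi ((N * d) • 𝟙 T)) (ι : kernel (N • 𝟙 H) ⟶ kernel ((N * d) • 𝟙 H))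
    (hι : ι ≫ kernel.ι _ = kernel.ι _) (ψ : kernel ((N * d) • 𝟙 H) ⟶ M)
    (χ₁ : H ⟶ M) (hχ₁ : kernel.ι ((N * d) • 𝟙 H) ≫ χ₁ = d • ψ) :
    ∃ χ : H ⟶ M, kernel.ι (N • 𝟙 H) ≫ χ = ι ≫ ψ := by
  have h' : (d • π) ≫ j = (N * d) • 𝟙 H := by
    rw [Preadditive.nsmul_comp, h, smul_smul, mul_comm]
  have h1 := seq_exact h hN
  have h2 := seq_exact h' hNd
  let φ : ShortComplex.mk (kernel.ι (N • 𝟙 H)) π (seq_w h) ⟶
      ShortComplex.mk (kernel.ι ((N * d) • 𝟙 H)) (d • π) (seq_w h') :=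
    { τ₁ := ι
      τ₂ := 𝟙 H
      τ₃ := d • 𝟙 T
      comm₁₂ := by
        change ι ≫ kernel.ι _ = kernel.ι _ ≫ 𝟙 H
        rw [hι, Category.comp_id]
      comm₂₃ := by
        change 𝟙 H ≫ (d • π) = π ≫ (d • 𝟙 T)
        rw [Category.id_comp, Preadditive.comp_nsmul, Category.comp_id] }
  have hnat := ShortComplex.ShortExact.extClass_naturality h1 h2 φ
  have hz : h1.extClass.comp (Ext.mk₀ (ι ≫ ψ)) (add_zero 1) = 0 := by
    have e1 : h1.extClass.comp (Ext.mk₀ (ι ≫ ψ)) (add_zero 1) =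
        (h1.extClass.comp (Ext.mk₀ ι) (add_zero 1)).comp (Ext.mk₀ ψ) (add_zero 1) := by
      rw [Ext.comp_assoc_of_third_deg_zero, Ext.mk₀_comp_mk₀]
    have e2 : h1.extClass.comp (Ext.mk₀ ι) (add_zero 1) = d • h2.extClass := by
      refine hnat.trans ?_
      exact comp_nsmul_ext h2.extClass d
    rw [e1, e2]
    have e3 : (d • h2.extClass).comp (Ext.mk₀ ψ) (add_zero 1) = d • h2.extClass.comp (Ext.mk₀ ψ) (add_zero 1) :=
      ((Ext.mk₀ ψ).postcomp T (add_zero 1)).map_nsmul d h2.extClass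
    rw [e3, ← ext_comp_nsmul, ← hχ₁, ← Ext.mk₀_comp_mk₀, ← Ext.comp_assoc_of_third_deg_zero]
    have e4 : h2.extClass.comp (Ext.mk₀ (kernel.ι ((N * d) • 𝟙 H))) (add_zero 1) = 0 :=
      ShortComplex.ShortExact.extClass_comp h2
    rw [e4, Ext.zero_comp]
  obtain ⟨x, hx⟩ := Ext.contravariant_sequence_exact₁ h1 (Y := M) (Ext.mk₀ (ι ≫ ψ)) (n₁ := 1) rfl hz
  obtain ⟨χ, rfl⟩ := Ext.homEquiv₀.symm.surjective x
  refine ⟨χ, ?_⟩
  apply Ext.homEquiv₀.symm.injective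
  exact (Ext.mk₀_comp_mk₀ _ _).symm.trans hx

include hs hn hT in
/-- Injectivity of the pairing for an almost torus. -/
theorem inj_almost (hn0 : 0 < n) (hK : ∀ N : ℕ, 0 < N → Inj X M (kernel (N • 𝟙 H)))
    (htor : ∀ x : Ext X H 2, IsOfFinAddOrder x) (d : ℕ) (hd : 0 < d)
    (hunif : ∀ N : ℕ, 0 < N → ∀ ψ : kernel (N • 𝟙 H) ⟶ M, ∃ χ : H ⟶ M, kernel.ι (N • 𝟙 H) ≫ χ = d • ψ) :
    Inj X M H := by
  have hj : Mono j := hs.mono_f
  obtain ⟨π, hπ⟩ := exists_pi j q w hs n hn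
  intro α hα
  obtain ⟨N₁, hN₁, hα1⟩ := isOfFinAddOrder_iff_nsmul_eq_zero.1 (htor α)
  have hN : 0 < n * N₁ := Nat.mul_pos hn0 hN₁
  have hNd : 0 < (n * N₁) * d := Nat.mul_pos hN hd
  have hπN : (N₁ • π) ≫ j = (n * N₁) • 𝟙 H := by
    rw [Preadditive.nsmul_comp, hπ, smul_smul, mul_comm]
  have hsN := seq_exact hπN (hT _ hN)
  have h1 : mp X (N₁ • π) 2 α = 0 := by
    rw [mp_nsmul, ← map_nsmul, hα1, map_zero]
  obtain ⟨β, rfl⟩ := (exact₂ X hsN 2 α).1 h1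
  change Ext X (kernel ((n * N₁) • 𝟙 H)) 2 at β
  let ι : kernel ((n * N₁) • 𝟙 H) ⟶ kernel (((n * N₁) * d) • 𝟙 H) := kernel.lift _ (kernel.ι _) (by
    have e : ((n * N₁) * d) • 𝟙 H = ((n * N₁) • 𝟙 H) ≫ (d • 𝟙 H) := by
      rw [Preadditive.comp_nsmul, Category.comp_id, smul_smul, mul_comm d]
    rw [e, kernel.condition_assoc, zero_comp])
  have hι : ι ≫ kernel.ι _ = kernel.ι _ := kernel.lift_ι _ _ _
  have h2 : mp X ι 2 β = 0 := hK _ hNd _ fun ψ => by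
    obtain ⟨χ₁, hχ₁⟩ := hunif _ hNd ψ
    obtain ⟨χ, hχ⟩ := exists_extension hπN (hT _ hN) (hT _ hNd) ι hι ψ χ₁ hχ₁
    rw [← mp_comp, ← hχ, mp_comp]
    exact hα χ
  change mp X (kernel.ι ((n * N₁) • 𝟙 H)) 2 β = 0
  rw [← hι, mp_comp, h2, map_zero]

end almost

end K59.Pair
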