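import Groth.Agent.TateLoc.K59.DevTor
import Groth.Agent.TateLoc.K809.Comp
import Groth.Agent.TateLoc.K892.TorExp

/-!
# The `N`-th power on a torus: epimorphism of fppf sheaves with finite kernel
-/

set_option autoImplicit false

universe u

open CategoryTheory CategoryTheory.Limits MonoidalCategory CartesianMonoidalCategory MonObj AlgebraicGeometry
open CGrpSh Opposite TensorProduct

namespace K59.TorPow

open DevAbs DevRep DevFin DevKey DevPrim DevMain DevTor K620.HopfPow Groth.Agent.Sga3A.MTBasis Groth.Agent.Books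
  Groth.Agent.Books.AffBridge Groth.Agent.Books.AffBridge2

/-- `N • 𝟙` on the sheaf of points is the sheaf map of the `N`-th power. -/
theorem nsmul_id_pts {S : Scheme.{u}} (K : Precoverage Scheme.{u}) [(QuotSh.J K S).Subcanonical] (G : Over S) [GrpObj G]
    [IsCommMonObj G] (n : ℕ) (f : G ⟶ G) [IsMonHom f] (h : (𝟙 G) ^ n = f) : n • 𝟙 (CGrpSh.pts K G) = CGrpSh.ptsMap K f := by
  have key : ∀ m : ℕ, ∀ (T : (Over S)ᵒᵖ) (x : (CGrpSh.pts K G).obj.obj T),
      (m • 𝟙 (CGrpSh.pts K G) : CGrpSh.pts K G ⟶ CGrpSh.pts K G).hom.app T x =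
        ULift.up (Additive.ofMul ((x.down.toMul : unop T ⟶ G) ≫ (𝟙 G) ^ m)) := by
    intro m T x
    induction m with
    | zero =>
      rw [zero_smul, pow_zero, MonObj.comp_one]
      rfl
    | succ m ih =>
      rw [succ_nsmul, pow_succ, MonObj.comp_mul, Category.comp_id]
      have h1 : (m • 𝟙 (CGrpSh.pts K G) + 𝟙 (CGrpSh.pts K G) : CGrpSh.pts K G ⟶ CGrpSh.pts K G).hom.app T x =
          (m • 𝟙 (CGrpSh.pts K G) : CGrpSh.pts K G ⟶ CGrpSh.pts K G).hom.app T x + x := rfl
      rw [h1, ih]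
      rfl
  apply Sheaf.hom_ext
  apply NatTrans.ext
  funext T
  ext x
  rw [key n T x, h]
  rfl

variable {k : Type u} [Field k]

theorem id_pow (A : Type u) [CommRing A] [HopfAlgebra k A] (n : ℕ) :
    (𝟙 (SpecOver k A)) ^ n = specMap k (SGA3b.powConv k A n) := by
  have h : ∀ f : WithConv (A →ₐ[k] A), specMap k (f ^ n).ofConv = specMap k f.ofConv ^ n := by
    intro f
    induction n with
    | zero => rw [pow_zero, pow_zero, specMap_one]
    | succ n ih => rw [pow_succ, pow_succ, specMap_mul, ih]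
  have h1 := h (WithConv.toConv (AlgHom.id k A))
  have h2 : specMap k (AlgHom.id k A) = 𝟙 (SpecOver k A) := specMap_id k
  change _ = specMap k (AlgHom.id k A) ^ n at h1
  rw [h2] at h1
  exact h1.symm

theorem powConv_injective {A : Type u} [CommRing A] [HopfAlgebra k A] (hA : SGA3b.IsTorusConst k A) (N : ℕ) (hN : 0 < N) :
    Function.Injective (SGA3b.powConv k A N) := by
  obtain ⟨R', _, _, hff, r, ⟨e⟩⟩ := hA
  let gD := GBasis.ofBialgEquiv e
  have hinj : Function.Injective (SGA3b.powConv R' (R' ⊗[k] A) N) := by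
    have hb : ∀ x, SGA3b.powConv R' (R' ⊗[k] A) N (gD.b x) = gD.b (x ^ N) := fun x => by
      rw [Groth.Agent.Sga3A.MTTorsion.powConv_groupLike (gD.gl x)]
      exact (map_pow gD.hom x N).symm
    have hxN : Function.Injective (fun x : Multiplicative (_root_.Fin r → ℤ) => x ^ N) := by
      intro x y hxy
      have h1 : N • x.toAdd = N • y.toAdd := congrArg Multiplicative.toAdd hxy
      apply Multiplicative.toAdd.injective
      funext i
      have h2 := congrFun h1 i
      simp only [Pi.smul_apply, nsmul_eq_mul] at h2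
      exact mul_left_cancel₀ (by exact_mod_cast hN.ne') h2
    have hli : LinearIndependent R' (fun x => SGA3b.powConv R' (R' ⊗[k] A) N (gD.b x)) := by
      simp only [hb]
      exact gD.b.linearIndependent.comp _ hxN
    have h4 : (SGA3b.powConv R' (R' ⊗[k] A) N).toLinearMap =
        (Finsupp.linearCombination R' (fun x => SGA3b.powConv R' (R' ⊗[k] A) N (gD.b x))) ∘ₗ gD.b.repr.toLinearMap :=
      gD.b.ext fun x => by simp
    have h5 : (SGA3b.powConv R' (R' ⊗[k] A) N : R' ⊗[k] A → R' ⊗[k] A) =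
        (Finsupp.linearCombination R' (fun x => SGA3b.powConv R' (R' ⊗[k] A) N (gD.b x))) ∘ gD.b.repr :=
      funext fun z => DFunLike.congr_fun h4 z
    rw [h5]
    exact Function.Injective.comp hli gD.b.repr.injective
  have hnt : Nontrivial R' := by
    have h0 : Nontrivial (k ⊗[k] R') := inferInstance
    exact (TensorProduct.lid k R').toEquiv.symm.nontrivial
  intro x y hxy
  have h2 : (1 : R') ⊗ₜ[k] x = (1 : R') ⊗ₜ[k] y := by
    apply hinj
    rw [Groth.Agent.Sga3A.PowConv.powConv_tmul, Groth.Agent.Sga3A.PowConv.powConv_tmul, hxy]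
  exact Algebra.TensorProduct.includeRight_injective (R := k) (A := R') (B := A) (algebraMap k R').injective h2

theorem finite_torsion {A : Type u} [CommRing A] [HopfAlgebra k A] [Algebra.FiniteType k A] (hA : SGA3b.IsTorusConst k A)
    (N : ℕ) (hN : 0 < N) : Module.Finite k (A ⧸ SGA3b.torsionIdeal k A N) := by
  obtain ⟨R', _, _, hff, r, ⟨e⟩⟩ := hA
  exact Groth.Agent.Sga3A.MTTorsion.finite_quot (GBasis.ofBialgEquiv e) N hN

theorem isTorusConst {A : Type u} [CommRing A] [HopfAlgebra k A] (h : Red.IsTorus (SpecOver k A)) :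
    SGA3b.IsTorusConst k A := by
  obtain ⟨r, hr⟩ := Groth.Agent.Sga3B.TorusAlgClosed.exists_isSplitTorusWith
    (Groth.Agent.Sga3B.TorusBc.isTorus_bc (Spec.map (CommRingCat.ofHom (algebraMap k (AlgebraicClosure k)))) h)
  obtain ⟨g⟩ := (Groth.Agent.Sga3B.TorusEtLoc920.isSplit_iff r).mp hr
  exact ⟨AlgebraicClosure k, inferInstance, inferInstance, inferInstance, r,
    ⟨((g.reindex MulEquiv.ulift).bialgEquiv).symm⟩⟩

/-- Invariance of the isogeny property. -/
theorem iso {F F' : BigSite.Ab Scheme.fppfPrecoverage (Spec (CommRingCat.of k))} (e : F ≅ F') (N : ℕ)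
    (h : Epi (N • 𝟙 F) ∧ Fin (kernel (N • 𝟙 F))) : Epi (N • 𝟙 F') ∧ Fin (kernel (N • 𝟙 F')) := by
  obtain ⟨h1, h2⟩ := h
  have h3 : (N • 𝟙 F) ≫ e.hom = e.hom ≫ (N • 𝟙 F') := by
    rw [Preadditive.comp_nsmul, Preadditive.nsmul_comp, Category.comp_id, Category.id_comp]
  constructor
  · have : Epi (e.hom ≫ (N • 𝟙 F')) := by rw [← h3]; infer_instance
    exact epi_of_epi e.hom _
  · exact fin_iso (kernel.mapIso _ _ e e h3) h2

/-- `N` is an isogeny on a torus. -/
theorem tor {F : BigSite.Ab Scheme.fppfPrecoverage (Spec (CommRingCat.of k))} (h : Tor F) (N : ℕ) (hN : 0 < N) :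
    Epi (N • 𝟙 F) ∧ Fin (kernel (N • 𝟙 F)) := by
  obtain ⟨T, t1, t2, t3, t4, t5, ⟨e⟩⟩ := h
  obtain ⟨A, _, _, _, eA, heA, hft⟩ := K620.HopfSeq.exists_model T
  have hA : Algebra.FiniteType k A := hft t4
  have hc : IsCommMonObj (SpecOver k A) := K620.HopfSeq.isCommMonObj_of_iso eA
  have hT : SGA3b.IsTorusConst k A :=
    isTorusConst (Groth.Agent.Sga3B.TorusBc.isTorus_of_iso (Grp.mkIso' eA) t5)
  have hinj : Function.Injective (powB k A N) := fun x y hxy => by
    rw [powB_apply, powB_apply] at hxy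
    exact powConv_injective hT N hN hxy
  have h1 : IsMonHom (specMap k ((powB k A N : A →ₐc[k] A) : A →ₐ[k] A)) := isMonHom_specMap k (powB k A N)
  obtain ⟨F', f1, f2, i, f3, w, hs, hfin⟩ := exists_ses (powB k A N) hinj
  have h2 : N • 𝟙 (CGrpSh.pts Scheme.fppfPrecoverage (SpecOver k A)) =
      CGrpSh.ptsMap Scheme.fppfPrecoverage (specMap k ((powB k A N : A →ₐc[k] A) : A →ₐ[k] A)) :=
    nsmul_id_pts _ _ N _ ((id_pow A N).trans (by rw [powB_coe]))
  have h3 : Module.Finite k (A ⧸ Ideal.map ((powB k A N : A →ₐc[k] A) : A →ₐ[k] A)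
      (RingHom.ker (Bialgebra.counitAlgHom k A))) := by
    have h4 := finite_torsion hT N hN
    rw [SGA3b.torsionIdeal, ← powB_coe] at h4
    exact h4
  refine iso ((K892.TorExp.ptsIso eA).symm.trans e) N ?_
  rw [h2]
  exact ⟨hs.epi_g, fin_iso (isoKernel hs) ⟨F', f1, f2, hfin h3, ⟨Iso.refl _⟩⟩⟩

end K59.TorPow
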